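import Mathlib
import Cfsg.Agent.Layer.FStar
import Cfsg.Agent.OrderType.Count

/-!
# Subgroups of symmetric groups containing 3-cycles
-/

set_option autoImplicit false
set_option linter.all false

namespace Cfsg.Agent.SymOdd

open Equiv Equiv.Perm Subgroup
open scoped commutatorElement

variable {α : Type*} [DecidableEq α] [Fintype α]

/-- The three cycle `a → b → c → a`. -/
def cyc (a b c : α) : Perm α := swap a b * swap b c

theorem cyc_apply_left {a b c : α} (hab : a ≠ b) (hac : a ≠ c) : cyc a b c a = b := by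
  rw [cyc, Perm.mul_apply, swap_apply_of_ne_of_ne hab hac, swap_apply_left]

theorem cyc_apply_mid {a b c : α} (hac : a ≠ c) (hbc : b ≠ c) : cyc a b c b = c := by
  rw [cyc, Perm.mul_apply, swap_apply_left, swap_apply_of_ne_of_ne hac.symm hbc.symm]

theorem cyc_apply_right {a b c : α} : cyc a b c c = a := by
  rw [cyc, Perm.mul_apply, swap_apply_right, swap_apply_right]

theorem cyc_apply_of_ne {a b c x : α} (h1 : x ≠ a) (h2 : x ≠ b) (h3 : x ≠ c) : cyc a b c x = x := by
  rw [cyc, Perm.mul_apply, swap_apply_of_ne_of_ne h2 h3, swap_apply_of_ne_of_ne h1 h2]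

theorem cyc_conj (g : Perm α) (a b c : α) : g * cyc a b c * g⁻¹ = cyc (g a) (g b) (g c) := by
  rw [cyc, cyc, Equiv.swap_apply_apply, Equiv.swap_apply_apply]
  group

theorem cyc_rot {a b c : α} (hab : a ≠ b) (hac : a ≠ c) (hbc : b ≠ c) : cyc b c a = cyc a b c := by
  ext x
  by_cases h1 : x = a
  · subst h1; rw [cyc_apply_right, cyc_apply_left hab hac]
  by_cases h2 : x = b
  · subst h2; rw [cyc_apply_left hbc hab.symm, cyc_apply_mid hac hbc]
  by_cases h3 : x = c
  · subst h3; rw [cyc_apply_mid hab.symm hac.symm, cyc_apply_right]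
  rw [cyc_apply_of_ne h2 h3 h1, cyc_apply_of_ne h1 h2 h3]

theorem cyc_inv (a b c : α) : (cyc a b c)⁻¹ = cyc c b a := by
  rw [cyc, cyc, mul_inv_rev, swap_inv, swap_inv, swap_comm c b, swap_comm b a]

theorem cyc_isThreeCycle {a b c : α} (hab : a ≠ b) (hac : a ≠ c) (hbc : b ≠ c) :
    IsThreeCycle (cyc a b c) := by
  rw [cyc, swap_comm a b]
  exact isThreeCycle_swap_mul_swap_same hab.symm hbc hac

theorem exists_cyc {σ : Perm α} (h : IsThreeCycle σ) :
    ∃ a b c, a ≠ b ∧ a ≠ c ∧ b ≠ c ∧ σ = cyc a b c := by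
  obtain ⟨a, ha⟩ : σ.support.Nonempty := by
    rw [← Finset.card_pos, h.card_support]; norm_num
  have hne : σ a ≠ a := mem_support.mp ha
  have h3 : σ (σ (σ a)) = a := by
    have := congrArg (fun g : Perm α => g a) (orderOf_dvd_iff_pow_eq_one.mp h.orderOf.dvd)
    simpa [pow_succ, Perm.mul_apply] using this
  have hac : σ (σ a) ≠ a := fun e => hne (by rw [e] at h3; exact h3)
  have hbc : σ a ≠ σ (σ a) := fun e => hne (σ.injective e.symm)
  refine ⟨a, σ a, σ (σ a), hne.symm, hac.symm, hbc, ?_⟩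
  have hsub : ({a, σ a, σ (σ a)} : Finset α) = σ.support := by
    refine Finset.eq_of_subset_of_card_le ?_ ?_
    · intro x hx
      simp only [Finset.mem_insert, Finset.mem_singleton] at hx
      rcases hx with rfl | rfl | rfl
      · exact ha
      · exact apply_mem_support.mpr ha
      · exact apply_mem_support.mpr (apply_mem_support.mpr ha)
    · rw [h.card_support, Finset.card_eq_three.mpr ⟨a, σ a, σ (σ a), hne.symm, hac.symm, hbc, rfl⟩]
  ext x
  by_cases h1 : x = a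
  · subst h1; rw [cyc_apply_left hne.symm hac.symm]
  by_cases h2 : x = σ a
  · subst h2; rw [cyc_apply_mid hac.symm hbc]
  by_cases hx3 : x = σ (σ a)
  · subst hx3; rw [cyc_apply_right, h3]
  rw [cyc_apply_of_ne h1 h2 hx3]
  refine notMem_support.mp fun hx => ?_
  rw [← hsub] at hx
  simp [h1, h2, hx3] at hx

/-- All three cycles on `Δ` lie in `G`. -/
def Full (G : Subgroup (Perm α)) (Δ : Finset α) : Prop :=
  ∀ a ∈ Δ, ∀ b ∈ Δ, ∀ c ∈ Δ, a ≠ b → a ≠ c → b ≠ c → cyc a b c ∈ G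

variable {G : Subgroup (Perm α)}

theorem full_triple {a b c : α} (hab : a ≠ b) (hac : a ≠ c) (hbc : b ≠ c) (h : cyc a b c ∈ G) :
    Full G {a, b, c} := by
  have h1 : cyc b c a ∈ G := by rw [cyc_rot hab hac hbc]; exact h
  have h2 : cyc c a b ∈ G := by rw [cyc_rot hbc hab.symm hac.symm]; exact h1
  have h3 : cyc c b a ∈ G := by rw [← cyc_inv]; exact inv_mem h
  have h4 : cyc a c b ∈ G := by rw [← cyc_inv]; exact inv_mem h1
  have h5 : cyc b a c ∈ G := by rw [← cyc_inv]; exact inv_mem h2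
  intro x hx y hy z hz hxy hxz hyz
  simp only [Finset.mem_insert, Finset.mem_singleton] at hx hy hz
  rcases hx with rfl | rfl | rfl <;> rcases hy with rfl | rfl | rfl <;>
    rcases hz with rfl | rfl | rfl <;>
    first
      | exact absurd rfl hxy | exact absurd rfl hxz | exact absurd rfl hyz | assumption

/-- Two overlapping sets of full three cycles. -/
theorem full_union {D₁ D₂ : Finset α} (h₁ : Full G D₁) (h₂ : Full G D₂) (c₁ : 3 ≤ D₁.card)
    (c₂ : 3 ≤ D₂.card) (hmeet : ∃ x ∈ D₁, x ∈ D₂) : Full G (D₁ ∪ D₂) := by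
  obtain ⟨x, hx1, hx2⟩ := hmeet
  have pick : ∀ (D : Finset α), 3 ≤ D.card → ∀ u v : α, ∃ d ∈ D, d ≠ u ∧ d ≠ v := by
    intro D hD u v
    by_contra hcon
    push Not at hcon
    have hsub : D ⊆ {u, v} := fun d hd => by
      simp only [Finset.mem_insert, Finset.mem_singleton]
      by_cases h : d = u
      · exact Or.inl h
      · exact Or.inr (hcon d hd h)
    have := (Finset.card_le_card hsub).trans (Finset.card_le_two)
    omega
  -- two points outside the second set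
  have two : ∀ (E₁ E₂ : Finset α), Full G E₁ → Full G E₂ → 3 ≤ E₂.card → x ∈ E₁ → x ∈ E₂ →
      ∀ a b c, a ∈ E₁ → a ∉ E₂ → b ∈ E₁ → b ∉ E₂ → c ∈ E₂ → c ∉ E₁ → a ≠ b → cyc a b c ∈ G := by
    intro E₁ E₂ g₁ g₂ hc hxE1 hxE2 a b c ha ha' hb hb' hc2 hc1 hab
    obtain ⟨d, hd, hdx, hdc⟩ := pick E₂ hc x c
    have hxc : x ≠ c := fun e => hc1 (e ▸ hxE1)
    have hg : cyc x c d ∈ G := g₂ x hxE2 c hc2 d hd hxc hdx.symm hdc.symm
    have hm := g₁ a ha b hb x hxE1 hab (fun e => ha' (e ▸ hxE2)) (fun e => hb' (e ▸ hxE2))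
    have h := mul_mem (mul_mem hg hm) (inv_mem hg)
    have fa : cyc x c d a = a := cyc_apply_of_ne (fun e : a = x => ha' (e.symm ▸ hxE2))
      (fun e : a = c => ha' (e.symm ▸ hc2)) (fun e : a = d => ha' (e.symm ▸ hd))
    have fb : cyc x c d b = b := cyc_apply_of_ne (fun e : b = x => hb' (e.symm ▸ hxE2))
      (fun e : b = c => hb' (e.symm ▸ hc2)) (fun e : b = d => hb' (e.symm ▸ hd))
    rw [cyc_conj, cyc_apply_left hxc hdx.symm, fa, fb] at h
    exact h
  -- a common point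
  have one : ∀ a b c, a ∈ D₁ → a ∈ D₂ → b ∈ D₁ → b ∉ D₂ → c ∈ D₂ → c ∉ D₁ → cyc a b c ∈ G := by
    intro a b c ha ha' hb hb' hc hc'
    have hab : a ≠ b := fun e => hb' (e ▸ ha')
    have hac : a ≠ c := fun e => hc' (e ▸ ha)
    have hbc : b ≠ c := fun e => hc' (e ▸ hb)
    obtain ⟨e, he, hea, heb⟩ := pick D₁ c₁ a b
    have hec : e ≠ c := fun h => hc' (h ▸ he)
    have habe := h₁ a ha b hb e he hab hea.symm heb.symm
    have haec : cyc a e c ∈ G := by
      by_cases he2 : e ∈ D₂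
      · exact h₂ a ha' e he2 c hc hea.symm hac hec
      · obtain ⟨d, hd, hda, hdc⟩ := pick D₂ c₂ a c
        have hg := h₂ a ha' c hc d hd hac hda.symm hdc.symm
        have h := mul_mem (mul_mem hg habe) (inv_mem hg)
        rw [cyc_conj, cyc_apply_left hac hda.symm,
          cyc_apply_of_ne hab.symm hbc (fun e => hb' (e.symm ▸ hd)),
          cyc_apply_of_ne hea hec (fun h => he2 (h.symm ▸ hd))] at h
        have h' := mul_mem (mul_mem h habe) (inv_mem h)
        rw [cyc_conj, cyc_apply_of_ne hac hab hea.symm, cyc_apply_mid hec.symm heb.symm,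
          cyc_apply_right] at h'
        exact h'
    have h := mul_mem (mul_mem habe haec) (inv_mem habe)
    rw [cyc_conj, cyc_apply_left hab hea.symm, cyc_apply_right,
      cyc_apply_of_ne hac.symm hbc.symm hec.symm] at h
    have h' := inv_mem h
    rw [cyc_inv] at h'
    rwa [← cyc_rot hac.symm hbc.symm hab] at h'
  have key : ∀ u v w, u ∈ D₁ → u ∉ D₂ → v ∈ D₂ → v ∉ D₁ → w ∈ D₁ ∪ D₂ → u ≠ w → v ≠ w →
      Full G {u, v, w} := by
    intro u v w hu hu' hv hv' hw huw hvw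
    have huv : u ≠ v := fun e => hv' (e ▸ hu)
    by_cases h1 : w ∈ D₁
    · by_cases h2 : w ∈ D₂
      · have h := full_triple huw.symm hvw.symm huv (one w u v h1 h2 hu hu' hv hv')
        rwa [show ({u, v, w} : Finset α) = {w, u, v} by ext; simp; tauto]
      · have h := full_triple huw huv hvw.symm (two D₁ D₂ h₁ h₂ c₂ hx1 hx2 u w v hu hu' h1 h2 hv hv' huw)
        rwa [show ({u, v, w} : Finset α) = {u, w, v} by ext; simp; tauto]
    · have h2 : w ∈ D₂ := (Finset.mem_union.mp hw).resolve_left h1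
      have h := full_triple hvw huv.symm huw.symm (two D₂ D₁ h₂ h₁ c₁ hx2 hx1 v w u hv hv' h2 h1 hu hu' hvw)
      rwa [show ({u, v, w} : Finset α) = {v, w, u} by ext; simp; tauto]
  intro a ha b hb c hc hab hac hbc
  by_cases hall1 : a ∈ D₁ ∧ b ∈ D₁ ∧ c ∈ D₁
  · exact h₁ a hall1.1 b hall1.2.1 c hall1.2.2 hab hac hbc
  by_cases hall2 : a ∈ D₂ ∧ b ∈ D₂ ∧ c ∈ D₂
  · exact h₂ a hall2.1 b hall2.2.1 c hall2.2.2 hab hac hbc
  have hmem : ∀ {y}, y ∈ D₁ ∪ D₂ → y ∉ D₂ → y ∈ D₁ := fun h h' => (Finset.mem_union.mp h).resolve_right h'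
  have hmem' : ∀ {y}, y ∈ D₁ ∪ D₂ → y ∉ D₁ → y ∈ D₂ := fun h h' => (Finset.mem_union.mp h).resolve_left h'
  obtain ⟨u, hu, hu'⟩ : ∃ u ∈ ({a, b, c} : Finset α), u ∉ D₂ := by
    by_contra hcon; push Not at hcon
    exact hall2 ⟨hcon a (by simp), hcon b (by simp), hcon c (by simp)⟩
  obtain ⟨v, hv, hv'⟩ : ∃ v ∈ ({a, b, c} : Finset α), v ∉ D₁ := by
    by_contra hcon; push Not at hcon
    exact hall1 ⟨hcon a (by simp), hcon b (by simp), hcon c (by simp)⟩
  have h3 : ({a, b, c} : Finset α).card = 3 := Finset.card_eq_three.mpr ⟨a, b, c, hab, hac, hbc, rfl⟩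
  obtain ⟨w, hw, hwu, hwv⟩ := pick ({a, b, c} : Finset α) h3.ge u v
  have hsub : ∀ {y : α}, y ∈ ({a, b, c} : Finset α) → y ∈ D₁ ∪ D₂ := by
    intro y hy
    simp only [Finset.mem_insert, Finset.mem_singleton] at hy
    rcases hy with rfl | rfl | rfl <;> assumption
  have hu1 := hmem (hsub hu) hu'
  have huv : u ≠ v := fun e => hv' (e ▸ hu1)
  have h := key u v w hu1 hu' (hmem' (hsub hv) hv') hv' (hsub hw) hwu.symm hwv.symm
  have e : ({u, v, w} : Finset α) = {a, b, c} := by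
    refine Finset.eq_of_subset_of_card_le ?_ ?_
    · intro y hy
      simp only [Finset.mem_insert, Finset.mem_singleton] at hy
      rcases hy with rfl | rfl | rfl <;> assumption
    · rw [h3, Finset.card_eq_three.mpr ⟨u, v, w, huv, hwu.symm, hwv.symm, rfl⟩]
  rw [e] at h
  exact h a (by simp) b (by simp) c (by simp) hab hac hbc

/-- The alternating group on `Δ`. -/
def altOn (Δ : Finset α) : Subgroup (Perm α) :=
  (alternatingGroup {x // x ∈ Δ}).map (Perm.ofSubtype (p := fun x => x ∈ Δ))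

theorem altOn_fixes {Δ : Finset α} {σ : Perm α} (h : σ ∈ altOn Δ) {x : α} (hx : x ∉ Δ) : σ x = x := by
  obtain ⟨τ, -, rfl⟩ := h
  exact ofSubtype_apply_of_not_mem τ hx

theorem ofSubtype_cyc {Δ : Finset α} (a b c : {x // x ∈ Δ}) :
    Perm.ofSubtype (p := fun x => x ∈ Δ) (cyc a b c) = cyc (a : α) b c := by
  rw [cyc, cyc, map_mul, ofSubtype_swap_eq, ofSubtype_swap_eq]

theorem altOn_le_of_full {Δ : Finset α} (h : Full G Δ) : altOn Δ ≤ G := by
  rw [altOn, ← closure_three_cycles_eq_alternating, MonoidHom.map_closure, closure_le]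
  rintro _ ⟨σ, hσ, rfl⟩
  obtain ⟨a, b, c, hab, hac, hbc, rfl⟩ := exists_cyc hσ
  rw [ofSubtype_cyc]
  exact h a a.2 b b.2 c c.2 (fun e => hab (Subtype.ext e)) (fun e => hac (Subtype.ext e))
    (fun e => hbc (Subtype.ext e))

theorem cyc_mem_altOn {Δ : Finset α} {a b c : α} (ha : a ∈ Δ) (hb : b ∈ Δ) (hc : c ∈ Δ) (hab : a ≠ b)
    (hac : a ≠ c) (hbc : b ≠ c) : cyc a b c ∈ altOn Δ :=
  ⟨cyc ⟨a, ha⟩ ⟨b, hb⟩ ⟨c, hc⟩, (cyc_isThreeCycle (fun e => hab (congrArg Subtype.val e))
    (fun e => hac (congrArg Subtype.val e)) (fun e => hbc (congrArg Subtype.val e))).mem_alternatingGroup,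
    ofSubtype_cyc _ _ _⟩

theorem cyc_commute_altOn {Δ : Finset α} {a b c : α} (ha : a ∉ Δ) (hb : b ∉ Δ) (hc : c ∉ Δ)
    {σ : Perm α} (hσ : σ ∈ altOn Δ) : Commute (cyc a b c) σ := by
  refine Perm.Disjoint.commute fun x => ?_
  by_cases hx : x ∈ Δ
  · exact Or.inl (cyc_apply_of_ne (fun e => ha (e ▸ hx)) (fun e => hb (e ▸ hx)) (fun e => hc (e ▸ hx)))
  · exact Or.inr (altOn_fixes hσ hx)

/-- A full set containing given points that is not contained in a bigger one. -/
theorem exists_max {D : Finset α} (hD : Full G D) :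
    ∃ Δ, D ⊆ Δ ∧ Full G Δ ∧ ∀ Δ', Full G Δ' → Δ ⊆ Δ' → Δ' = Δ := by
  classical
  obtain ⟨Δ, hΔ, hmax⟩ := (Finset.univ.filter fun E : Finset α => D ⊆ E ∧ Full G E).exists_max_image
    Finset.card ⟨D, by simp [hD]⟩
  simp only [Finset.mem_filter, Finset.mem_univ, true_and] at hΔ hmax
  exact ⟨Δ, hΔ.1, hΔ.2, fun E hE hsub =>
    (Finset.eq_of_subset_of_card_le hsub (hmax E ⟨hΔ.1.trans hsub, hE⟩)).symm⟩

theorem cyc_in_or_out {Δ : Finset α} (hΔ : Full G Δ) (h3 : 3 ≤ Δ.card)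
    (hmax : ∀ Δ', Full G Δ' → Δ ⊆ Δ' → Δ' = Δ) {a b c : α} (hab : a ≠ b) (hac : a ≠ c) (hbc : b ≠ c)
    (h : cyc a b c ∈ G) : (a ∈ Δ ∧ b ∈ Δ ∧ c ∈ Δ) ∨ (a ∉ Δ ∧ b ∉ Δ ∧ c ∉ Δ) := by
  by_cases hm : ∃ x ∈ Δ, x ∈ ({a, b, c} : Finset α)
  · have hf := full_union hΔ (full_triple hab hac hbc h) h3
      (by rw [Finset.card_eq_three.mpr ⟨a, b, c, hab, hac, hbc, rfl⟩]) hm
    have e := hmax _ hf Finset.subset_union_left
    refine Or.inl ⟨?_, ?_, ?_⟩ <;> rw [← e] <;> simp
  · push Not at hm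
    exact Or.inr ⟨fun h => hm a h (by simp), fun h => hm b h (by simp), fun h => hm c h (by simp)⟩

theorem altOn_subnormal {Δ : Finset α} (hΔ : Full G Δ) (h3 : 3 ≤ Δ.card)
    (hmax : ∀ Δ', Full G Δ' → Δ ⊆ Δ' → Δ' = Δ) : ((altOn Δ).subgroupOf G).IsSubnormal := by
  set K : Subgroup G := closure {h : G | IsThreeCycle (h : Perm α)} with hK
  have hKn : K.Normal := by
    rw [← normalizer_eq_top_iff, eq_top_iff]
    intro g _
    have key : ∀ g : G, K.map (MulAut.conj g).toMonoidHom ≤ K := fun g => by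
      rw [hK, MonoidHom.map_closure]
      refine closure_mono ?_
      rintro _ ⟨h, hh, rfl⟩
      show IsThreeCycle (((g * h * g⁻¹ : ↥G)) : Perm α)
      push_cast
      rw [IsThreeCycle, cycleType_conj]
      exact hh
    rw [mem_normalizer_iff]
    refine fun y => ⟨fun hy => key g (mem_map_of_mem _ hy), fun hy => ?_⟩
    have := key g⁻¹ (mem_map_of_mem _ hy)
    simpa [mul_assoc] using this
  have hle : (altOn Δ).subgroupOf G ≤ K := by
    have h1 : altOn Δ ≤ K.map G.subtype := by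
      rw [altOn, ← closure_three_cycles_eq_alternating, MonoidHom.map_closure, closure_le]
      rintro _ ⟨σ, hσ, rfl⟩
      obtain ⟨a, b, c, hab, hac, hbc, rfl⟩ := exists_cyc hσ
      have hab' : (a : α) ≠ b := fun e => hab (Subtype.ext e)
      have hac' : (a : α) ≠ c := fun e => hac (Subtype.ext e)
      have hbc' : (b : α) ≠ c := fun e => hbc (Subtype.ext e)
      rw [ofSubtype_cyc]
      exact ⟨⟨_, hΔ a a.2 b b.2 c c.2 hab' hac' hbc'⟩,
        subset_closure (cyc_isThreeCycle hab' hac' hbc'), rfl⟩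
    intro x hx
    obtain ⟨y, hy, e⟩ := h1 hx
    rwa [← Subtype.ext e]
  refine IsSubnormal.step _ K hle hKn.isSubnormal ((normal_subgroupOf_iff_le_normalizer hle).mpr ?_)
  rw [hK, closure_le]
  rintro ⟨k, hkG⟩ hk
  obtain ⟨a, b, c, hab, hac, hbc, rfl⟩ := exists_cyc (σ := k) hk
  rcases cyc_in_or_out hΔ h3 hmax hab hac hbc hkG with ⟨ha, hb, hc⟩ | ⟨ha, hb, hc⟩
  · exact le_normalizer (cyc_mem_altOn ha hb hc hab hac hbc)
  · refine centralizer_le_normalizer _ (mem_centralizer_iff.mpr fun σ hσ => Subtype.ext ?_)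
    exact (cyc_commute_altOn ha hb hc hσ).symm.eq

theorem perm_solvable_of_card_le_four {β : Type*} [DecidableEq β] [Fintype β]
    (h : Fintype.card β ≤ 4) : Group.IsSolvable (Perm β) := by
  have := Cfsg.Agent.OrderType.s4_solvable
  obtain ⟨ι⟩ := Function.Embedding.nonempty_of_card_le (α := β) (β := Fin 4) (by simpa using h)
  exact Group.isSolvable_of_isSolvable_injective (Perm.viaEmbeddingHom_injective ι)

/-- Structure of the generalized Fitting subgroup. -/
theorem fstar_eq (hF : Cfsg.IsQuasisimple ↥(Cfsg.generalizedFittingSubgroup ↥G)) {Δ : Finset α}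
    (hΔ : Full G Δ) (h3 : 3 ≤ Δ.card) (hmax : ∀ Δ', Full G Δ' → Δ ⊆ Δ' → Δ' = Δ) :
    (5 ≤ Δ.card ∧ Cfsg.generalizedFittingSubgroup ↥G = (altOn Δ).subgroupOf G) ∨
      (altOn Δ).subgroupOf G ≤ centralizer (Cfsg.generalizedFittingSubgroup ↥G : Set ↥G) := by
  set L := Cfsg.generalizedFittingSubgroup ↥G with hL
  have hLn : L.Normal := inferInstance
  have hcomp : Cfsg.IsComponent L := ⟨hLn.isSubnormal, hF⟩
  set A := (altOn Δ).subgroupOf G with hA
  rcases Layer.component_le_or_commute hcomp (altOn_subnormal hΔ h3 hmax) with h | h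
  · left
    let e : ↥A ≃* ↥(alternatingGroup {x // x ∈ Δ}) :=
      (subgroupOfEquivOfLe (altOn_le_of_full hΔ)).trans
        ((alternatingGroup {x // x ∈ Δ}).equivMapOfInjective _ Perm.ofSubtype_injective).symm
    have h5 : 5 ≤ Δ.card := by
      by_contra h5
      have : Group.IsSolvable (Perm {x // x ∈ Δ}) :=
        perm_solvable_of_card_le_four (by rw [Fintype.card_coe]; omega)
      have hAs : Group.IsSolvable ↥A := Group.isSolvable_of_isSolvable_injective
        (f := e.toMonoidHom) e.injective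
      exact Layer.qs_not_isSolvable hF (Group.isSolvable_of_isSolvable_injective
        (f := inclusion h) (inclusion_injective h))
    refine ⟨h5, le_antisymm h ?_⟩
    haveI : IsSimpleGroup (alternatingGroup {x // x ∈ Δ}) :=
      alternatingGroup.isSimpleGroup (by simpa using h5)
    haveI : Nontrivial ↥A := e.toEquiv.nontrivial
    haveI : IsSimpleGroup ↥A := IsSimpleGroup.isSimpleGroup_of_surjective e.symm.toMonoidHom e.symm.surjective
    haveI : (L.subgroupOf A).Normal := hLn.comap _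
    rcases IsSimpleGroup.eq_bot_or_eq_top_of_normal (L.subgroupOf A) inferInstance with h' | h'
    · refine absurd ?_ (Layer.qs_subgroup_ne_bot hF)
      rw [← inf_eq_left.mpr h]
      exact disjoint_iff.mp (subgroupOf_eq_bot.mp h')
    · exact subgroupOf_eq_top.mp h'
  · right
    exact commutator_eq_bot_iff_le_centralizer.mp (Layer.commutator_eq_bot_symm h)

end Cfsg.Agent.SymOdd
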