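import Cfsg.Agent.SymOdd.TwoBlocks
import Cfsg.Agent.S2929

/-!
# The case with a 3-cycle
-/

namespace Cfsg.Agent.SymOdd

open Equiv Equiv.Perm Subgroup
open scoped commutatorElement

variable {α : Type*} [DecidableEq α] [Fintype α] {H : Subgroup (Perm α)}

theorem full_map {Δ : Finset α} (hΔ : Full H Δ) {h : Perm α} (hh : h ∈ H) :
    Full H (Δ.map h.toEmbedding) := by
  intro a ha b hb c hc hab hac hbc
  simp only [Finset.mem_map] at ha hb hc
  obtain ⟨a, ha, rfl⟩ := ha
  obtain ⟨b, hb, rfl⟩ := hb
  obtain ⟨c, hc, rfl⟩ := hc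
  have := mul_mem (mul_mem hh (hΔ a ha b hb c hc (fun e => hab (e ▸ rfl)) (fun e => hac (e ▸ rfl))
    (fun e => hbc (e ▸ rfl)))) (inv_mem hh)
  rwa [cyc_conj] at this

/-- `q` and `q'` are transpositions: equal, disjoint, or their product is a 3-cycle. -/
theorem swap_trichotomy {a b c d : α} (hab : a ≠ b) (hcd : c ≠ d) :
    ({c, d} : Finset α) = {a, b} ∨ (a ≠ c ∧ a ≠ d ∧ b ≠ c ∧ b ≠ d) ∨
      IsThreeCycle (swap a b * swap c d) := by
  by_cases h1 : a = c
  · subst h1
    by_cases h2 : b = d
    · subst h2; exact Or.inl rfl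
    · refine Or.inr (Or.inr ?_)
      rw [swap_comm a b]
      exact cyc_isThreeCycle hab.symm h2 hcd
  by_cases h2 : a = d
  · subst h2
    by_cases h3 : b = c
    · subst h3; exact Or.inl (by rw [Finset.pair_comm])
    · refine Or.inr (Or.inr ?_)
      rw [swap_comm a b, swap_comm c a]
      exact cyc_isThreeCycle hab.symm h3 h1
  by_cases h3 : b = c
  · subst h3
    exact Or.inr (Or.inr (cyc_isThreeCycle hab h2 hcd))
  by_cases h4 : b = d
  · subst h4
    refine Or.inr (Or.inr ?_)
    rw [swap_comm c b]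
    exact cyc_isThreeCycle hab h1 hcd.symm
  exact Or.inr (Or.inl ⟨h1, h2, h3, h4⟩)

theorem three_branch {π : Perm α} (hπ : Pairing π)
    (hW : ∀ x y, π x ≠ x → π y ≠ y → y ≠ x → y ≠ π x → pswap π x * pswap π y ∈ H)
    (hn : 6 ≤ Fintype.card α) (hthree : HasThree H)
    (hF : Cfsg.IsQuasisimple ↥(Cfsg.generalizedFittingSubgroup ↥H)) :
    ∃ Δ : Finset α, Fintype.card α ≤ Δ.card + 3 ∧ altOn Δ ≤ H ∧
      Cfsg.generalizedFittingSubgroup ↥H = (altOn Δ).subgroupOf H := by
  set L₀ := Cfsg.generalizedFittingSubgroup ↥H with hL₀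
  have hL₀n : L₀.Normal := inferInstance
  set L : Subgroup (Perm α) := L₀.map H.subtype with hL
  have hqs : Cfsg.IsQuasisimple ↥L :=
    Layer.isQuasisimple_congr (L₀.equivMapOfInjective _ H.subtype_injective) hF
  have hperf := Layer.qs_subgroup_perfect hqs
  have hne := Layer.qs_subgroup_not_abelian hqs
  have hLH : L ≤ H := map_subtype_le _
  have hnorm : ∀ h ∈ H, ∀ l ∈ L, h * l * h⁻¹ ∈ L := by
    rintro h hh _ ⟨l, hl, rfl⟩
    exact ⟨⟨h, hh⟩ * l * ⟨h, hh⟩⁻¹, hL₀n.conj_mem l hl _, rfl⟩
  have hstab : ∀ Δ : Finset α, Full H Δ → 3 ≤ Δ.card → (∀ Δ', Full H Δ' → Δ ⊆ Δ' → Δ' = Δ) →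
      ∀ x ∈ Δ, π x ∈ Δ := by
    intro Δ hΔ hΔ3 hmax x hx
    by_cases hxx : π x = x
    · rwa [hxx]
    obtain ⟨y, hy, hyF, -⟩ := hπ.exists_outside (k := 2) hn {x, π x} Finset.card_le_two
    simp only [Finset.mem_insert, Finset.mem_singleton, not_or] at hyF
    have ht := hW x y hxx hy hyF.1 hyF.2
    set t := pswap π x * pswap π y with htdef
    have hf := full_map hΔ ht
    by_cases hm : ∃ z ∈ Δ, z ∈ Δ.map t.toEmbedding
    · have e := hmax _ (full_union hΔ hf hΔ3 (by rwa [Finset.card_map]) hm) Finset.subset_union_left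
      have h1 : t x ∈ Δ ∪ Δ.map t.toEmbedding :=
        Finset.mem_union_right _ (Finset.mem_map_of_mem _ hx)
      rw [e] at h1
      convert h1 using 1
      have := hπ.inv y
      simp only [htdef, pswap, Perm.mul_apply, swap_apply_def]
      grind
    · exfalso
      push Not at hm
      have hsupp : Δ ∪ Δ.map t.toEmbedding ⊆ {x, π x, y, π y} := by
        intro z hz
        rw [← hπ.pswap_mul_ne hxx hy hyF.1 hyF.2]
        intro e
        rcases Finset.mem_union.mp hz with h | h
        · exact hm z h (Finset.mem_map.mpr ⟨z, h, e⟩)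
        · obtain ⟨w, hw, rfl⟩ := Finset.mem_map.mp h
          exact hm w hw (Finset.mem_map.mpr ⟨w, hw, t.injective e⟩)
      have h4 := (Finset.card_le_card hsupp).trans Finset.card_le_four
      rw [Finset.card_union_of_disjoint (Finset.disjoint_left.mpr hm), Finset.card_map] at h4
      omega
  by_cases hbig : ∃ Δ : Finset α, Full H Δ ∧ 3 ≤ Δ.card ∧
      (∀ Δ', Full H Δ' → Δ ⊆ Δ' → Δ' = Δ) ∧ L₀ = (altOn Δ).subgroupOf H
  · obtain ⟨Δ, hΔ, hΔ3, hmax, hLe⟩ := hbig
    refine ⟨Δ, ?_, altOn_le_of_full hΔ, hLe⟩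
    have hout : ∀ x y, π x ≠ x → π y ≠ y → x ∉ Δ → y ∉ Δ → y = x ∨ y = π x := by
      intro x y hx hy hxd hyd
      by_contra h
      push Not at h
      have ht := hW x y hx hy h.1 h.2
      have hout' : ∀ z ∈ Δ, (pswap π x * pswap π y) z = z := by
        intro z hz
        by_contra hz'
        have := (hπ.pswap_mul_ne hx hy h.1 h.2).mp hz'
        have := hπ.inv x
        have := hπ.inv y
        have := hstab Δ hΔ hΔ3 hmax z hz
        simp only [Finset.mem_insert, Finset.mem_singleton] at *
        grind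
      have hc : (⟨_, ht⟩ : ↥H) ∈ L₀ := Layer.centralizer_generalizedFitting_le
        (mem_centralizer_iff.mpr fun l hl => by
          change l ∈ L₀ at hl
          rw [hLe] at hl
          refine Subtype.ext (Perm.Disjoint.commute (fun z => ?_)).eq
          by_cases hz : z ∈ Δ
          · exact Or.inr (hout' z hz)
          · exact Or.inl (altOn_fixes (mem_subgroupOf.mp hl) hz))
      rw [hLe] at hc
      have := altOn_fixes (mem_subgroupOf.mp hc) hxd
      exact ((hπ.pswap_mul_ne hx hy h.1 h.2).mpr (Finset.mem_insert_self x _)) this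
    have h1 : (Finset.univ.filter fun w => π w = w).card ≤ 1 := Finset.card_le_one.mpr fun a ha b hb =>
      hπ.fix a b (Finset.mem_filter.mp ha).2 (Finset.mem_filter.mp hb).2
    have h2 : ((Finset.univ \ Δ).filter fun w => π w ≠ w).card ≤ 2 := by
      rcases Finset.eq_empty_or_nonempty ((Finset.univ \ Δ).filter fun w => π w ≠ w) with e | ⟨x, hx⟩
      · rw [e]; exact Nat.zero_le _
      · simp only [Finset.mem_filter, Finset.mem_sdiff, Finset.mem_univ, true_and] at hx
        refine (Finset.card_le_card (t := {x, π x}) fun y hy => ?_).trans Finset.card_le_two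
        simp only [Finset.mem_filter, Finset.mem_sdiff, Finset.mem_univ, true_and] at hy
        simpa using hout x y hx.2 hy.2 hx.1 hy.1
    have h3 : (Finset.univ : Finset α) ⊆ Δ ∪ (Finset.univ.filter fun w => π w = w) ∪
        ((Finset.univ \ Δ).filter fun w => π w ≠ w) := by
      intro w _
      by_cases hw : w ∈ Δ
      · simp [hw]
      · by_cases h : π w = w <;> simp [hw, h]
    have h4 := Finset.card_le_card h3
    have h5 := Finset.card_union_le (Δ ∪ (Finset.univ.filter fun w => π w = w))
      ((Finset.univ \ Δ).filter fun w => π w ≠ w)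
    have h6 := Finset.card_union_le Δ (Finset.univ.filter fun w => π w = w)
    rw [Finset.card_univ] at h4
    omega
  exfalso
  have hfixes : ∀ a b c : α, a ≠ b → a ≠ c → b ≠ c → cyc a b c ∈ H → ∀ l ∈ L, l a = a := by
    intro a b c hab hac hbc h
    have hcomm : ∀ l ∈ L, Commute l (cyc a b c) := by
      rintro _ ⟨l, hl, rfl⟩
      obtain ⟨Δ, hsub, hΔ, hmax⟩ := exists_max (full_triple hab hac hbc h)
      have hΔ3 : 3 ≤ Δ.card := by
        have := Finset.card_le_card hsub
        rwa [Finset.card_eq_three.mpr ⟨a, b, c, hab, hac, hbc, rfl⟩] at this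
      rcases fstar_eq hF hΔ hΔ3 hmax with ⟨-, e⟩ | hc
      · exact absurd ⟨Δ, hΔ, hΔ3, hmax, e⟩ hbig
      · have hmem : (⟨_, h⟩ : ↥H) ∈ (altOn Δ).subgroupOf H :=
          cyc_mem_altOn (hsub (by simp)) (hsub (by simp)) (hsub (by simp)) hab hac hbc
        exact congrArg Subtype.val (mem_centralizer_iff.mp (hc hmem) l hl)
    intro l hl
    rw [← hperf] at hl
    have hle : ⁅L, L⁆ ≤ MulAction.stabilizer (Perm α) a := commutator_le.mpr fun f hf g hg =>
      S2929.commutator_fix hab hac hbc (hcomm f hf) (hcomm g hg)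
    exact hle hl
  obtain ⟨g, hgH, hg3⟩ := hthree
  obtain ⟨a, b, c, hab, hac, hbc, rfl⟩ := exists_cyc hg3
  obtain ⟨Δ, hsub, hΔ, hmax⟩ := exists_max (full_triple hab hac hbc hgH)
  have hΔ3 : 3 ≤ Δ.card := by
    have := Finset.card_le_card hsub
    rwa [Finset.card_eq_three.mpr ⟨a, b, c, hab, hac, hbc, rfl⟩] at this
  have hΔfix : ∀ z ∈ Δ, ∀ l ∈ L, l z = z := by
    intro z hz
    obtain ⟨u, hu, v, hv, huv⟩ := Finset.one_lt_card.mp
      (show 1 < (Δ.erase z).card by rw [Finset.card_erase_of_mem hz]; omega)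
    rw [Finset.mem_erase] at hu hv
    exact hfixes z u v hu.1.symm hv.1.symm huv (hΔ z hz u hu.2 v hv.2 hu.1.symm hv.1.symm huv)
  obtain ⟨x, hxΔ, hxx⟩ : ∃ x ∈ Δ, π x ≠ x := by
    by_contra h
    push Not at h
    have : Δ.card ≤ 1 := Finset.card_le_one.mpr fun a ha b hb => hπ.fix a b (h a ha) (h b hb)
    omega
  have hπxΔ := hstab Δ hΔ hΔ3 hmax x hxΔ
  have hpair : ∀ y, π y ≠ y → y ≠ x → y ≠ π x → ∀ l ∈ L, l y = y := by
    intro y hy h1 h2
    set sy := pswap π y with hsy
    let q : Perm α → Perm α := fun l => swap (l y) (l (π y))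
    let C : Perm α → Perm α := fun l => sy * q l
    have hC : ∀ l ∈ L, C l ∈ L := by
      intro l hl
      have ht := hW x y hxx hy h1 h2
      set t := pswap π x * pswap π y
      have e1 : l * t * l⁻¹ = pswap π x * q l := by
        rw [show l * t * l⁻¹ = (l * pswap π x * l⁻¹) * (l * pswap π y * l⁻¹) by simp only [t]; group,
          ← swap_apply_apply, ← swap_apply_apply, hΔfix x hxΔ l hl, hΔfix _ hπxΔ l hl]
      have hxq : Commute (pswap π x) (q l) := swap_commute
        (fun e => h1 (l.injective (by rw [hΔfix x hxΔ l hl]; exact e.symm)))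
        (fun e => h2 (by rw [← hπ.inv y, ← l.injective ((hΔfix x hxΔ l hl).trans e)]))
        (fun e => h2 (l.injective ((hΔfix _ hπxΔ l hl).trans e)).symm)
        (fun e => h1 (π.injective (l.injective ((hΔfix _ hπxΔ l hl).trans e))).symm)
      have hxy : Commute (pswap π x) sy := swap_commute h1.symm
        (fun e => h2 (by rw [e, hπ.inv])) (fun e => h2 e.symm) (fun e => h1 (π.injective e).symm)
      have e2 : C l = t * (l * t⁻¹ * l⁻¹) := by
        rw [show l * t⁻¹ * l⁻¹ = (l * t * l⁻¹)⁻¹ by group, e1, mul_inv_rev, swap_inv, swap_inv]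
        show sy * q l = pswap π x * sy * (q l * pswap π x)
        rw [← hxq.eq, hxy.eq, mul_assoc, ← mul_assoc (pswap π x), swap_mul_self, one_mul]
      rw [e2, show t * (l * t⁻¹ * l⁻¹) = t * l * t⁻¹ * l⁻¹ by group]
      exact mul_mem (hnorm t ht l hl) (inv_mem hl)
    have h4 : ∀ l ∈ L, ({l y, l (π y)} : Finset α) = {y, π y} ∨
        (y ≠ l y ∧ y ≠ l (π y) ∧ π y ≠ l y ∧ π y ≠ l (π y)) := by
      intro l hl
      rcases swap_trichotomy hy.symm (l.injective.ne hy.symm) with h | h | h
      · exact Or.inl h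
      · exact Or.inr h
      · exfalso
        obtain ⟨u, v, w, huv, huw, hvw, e⟩ := exists_cyc h
        have hmem : cyc u v w ∈ L := e ▸ hC l hl
        have := hfixes u v w huv huw hvw (hLH hmem) _ hmem
        rw [cyc_apply_left huv huw] at this
        exact huv this.symm
    have hq : ∀ l ∈ L, Commute sy (q l) := by
      intro l hl
      rcases h4 l hl with h | ⟨a1, a2, a3, a4⟩
      · have hyl : l y ∈ ({y, π y} : Finset α) := by rw [← h]; simp
        have hyl' : l (π y) ∈ ({y, π y} : Finset α) := by rw [← h]; simp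
        have hne' : l y ≠ l (π y) := l.injective.ne hy.symm
        simp only [Finset.mem_insert, Finset.mem_singleton] at hyl hyl'
        show Commute sy (swap (l y) (l (π y)))
        rcases hyl with e | e <;> rcases hyl' with e' | e' <;> rw [e, e'] at hne' ⊢
        all_goals first
          | exact absurd rfl hne'
          | exact Commute.refl sy
          | rw [swap_comm]
      · exact swap_commute a1 a2 a3 a4
    have hconjq : ∀ l m : Perm α, l * q m * l⁻¹ = q (l * m) := fun l m => by
      simp only [q, ← swap_apply_apply, Perm.mul_apply]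
    have hq1 : q 1 = sy := rfl
    have hqq : ∀ l ∈ L, ∀ m ∈ L, Commute (q l) (q m) := by
      intro l hl m hm
      have h := (hq _ (mul_mem (inv_mem hl) hm))
      rw [← hq1] at h
      have := h.map (MulAut.conj l).toMonoidHom
      simp only [MulEquiv.coe_toMonoidHom, MulAut.conj_apply] at this
      rwa [hconjq, hconjq, mul_one, mul_inv_cancel_left] at this
    have hCC : ∀ l ∈ L, ∀ m ∈ L, Commute (C l) (C m) := fun l hl m hm =>
      (((Commute.refl sy).mul_right (hq m hm))).mul_left ((hq l hl).symm.mul_right (hqq l hl m hm))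
    let A : Subgroup (Perm α) := Subgroup.closure (C '' (L : Set (Perm α)))
    have hAL : A ≤ L := (closure_le L).mpr (by rintro _ ⟨l, hl, rfl⟩; exact hC l hl)
    have hA1 : A ≤ centralizer (C '' (L : Set (Perm α))) := (closure_le _).mpr (by
      rintro _ ⟨l, hl, rfl⟩
      refine mem_centralizer_iff.mpr ?_
      rintro _ ⟨m, hm, rfl⟩
      exact hCC m hm l hl)
    have hAn : L ≤ normalizer (A : Set (Perm α)) := by
      have key : ∀ g ∈ L, A.map (MulAut.conj g).toMonoidHom ≤ A := by
        intro g hg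
        show (Subgroup.closure _).map _ ≤ _
        rw [MonoidHom.map_closure, closure_le]
        rintro _ ⟨_, ⟨l, hl, rfl⟩, rfl⟩
        have e : g * C l * g⁻¹ = C g * C (g * l) := by
          show g * (sy * q l) * g⁻¹ = sy * q g * (sy * q (g * l))
          rw [show g * (sy * q l) * g⁻¹ = (g * q 1 * g⁻¹) * (g * q l * g⁻¹) by rw [hq1]; group,
            hconjq, hconjq, mul_one, (hq g hg).eq, mul_assoc, ← mul_assoc sy, swap_mul_self, one_mul]
        show g * C l * g⁻¹ ∈ A
        rw [e]
        exact mul_mem (subset_closure ⟨g, hg, rfl⟩) (subset_closure ⟨g * l, mul_mem hg hl, rfl⟩)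
      intro g hg
      rw [mem_normalizer_iff]
      refine fun z => ⟨fun hz => key g hg ⟨z, hz, rfl⟩, fun hz => ?_⟩
      have := key g⁻¹ (inv_mem hg) ⟨_, hz, rfl⟩
      simpa [mul_assoc] using this
    have hcentral : ∀ l ∈ L, ∀ m ∈ L, Commute (C l) m := by
      rcases Layer.qs_sub_normalized_cases hqs hAL hAn with h | h
      · refine absurd (le_bot_iff.mp (commutator_le.mpr fun u hu v hv => ?_)) hne
        rw [mem_bot, commutatorElement_eq_one_iff_commute]
        rw [← h] at hu hv
        have hgen : C '' (L : Set (Perm α)) ⊆ centralizer (A : Set (Perm α)) := fun k hk =>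
          mem_centralizer_iff.mpr fun w hw => ((mem_centralizer_iff.mp (hA1 hw)) k hk).symm
        exact (mem_centralizer_iff.mp ((closure_le _).mpr hgen hu) v hv).symm
      · exact fun l hl m hm => commutatorElement_eq_one_iff_commute.mp (mem_bot.mp
          (h ▸ commutator_mem_commutator (subset_closure ⟨l, hl, rfl⟩) hm))
    have hset : ∀ l ∈ L, ({l y, l (π y)} : Finset α) = {y, π y} := by
      intro l hl
      refine (h4 l hl).resolve_right fun ⟨a1, a2, a3, a4⟩ => ?_
      have hsupp : ∀ z, C l z ≠ z ↔ z ∈ ({y, π y, l y, l (π y)} : Finset α) := fun z => by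
        have := l.injective.ne hy.symm
        simp only [C, q, hsy, pswap, Perm.mul_apply, swap_apply_def, Finset.mem_insert,
          Finset.mem_singleton]
        grind
      have := perfect_fix hperf (MonoidHom.id _) {y, π y, l y, l (π y)} Finset.card_le_four
        (fun m hm z hz => by
          rw [← hsupp] at hz ⊢
          intro e
          refine hz (m.injective ?_)
          rw [← Perm.mul_apply, ← (hcentral l hl m hm).eq, Perm.mul_apply]
          exact e) l hl y (Finset.mem_insert_self _ _)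
      exact a1 this.symm
    intro l hl
    refine perfect_fix hperf (MonoidHom.id _) {y, π y} (Finset.card_le_two.trans (by norm_num))
      (fun m hm z hz => ?_) l hl y (Finset.mem_insert_self _ _)
    rw [← hset m hm]
    simp only [Finset.mem_insert, Finset.mem_singleton, MonoidHom.id_apply] at hz ⊢
    rcases hz with rfl | rfl
    · exact Or.inl rfl
    · exact Or.inr rfl
  have hall : ∀ l ∈ L, ∀ z, π z ≠ z → l z = z := by
    intro l hl z hz
    by_cases h1 : z = x
    · rw [h1]; exact hΔfix x hxΔ l hl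
    by_cases h2 : z = π x
    · rw [h2]; exact hΔfix _ hπxΔ l hl
    exact hpair z hz h1 h2 l hl
  have htriv : ∀ l ∈ L, l = 1 := fun l hl => Perm.ext fun z => by
    rw [Perm.one_apply]
    by_contra e
    have hz : π z = z := by_contra fun hz => e (hall l hl z hz)
    have hlz : π (l z) = l z := by_contra fun h => e (l.injective (hall l hl _ h))
    exact e (hπ.fix _ _ hlz hz)
  exact hne (le_bot_iff.mp (commutator_le.mpr fun u hu v hv => by simp [htriv u hu, htriv v hv]))

end Cfsg.Agent.SymOdd
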