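import Mathlib
import Cfsg.Agent.SymOdd.ThreeOver

/-!
# Alternating groups with a Sylow 3-subgroup in a unique maximal subgroup
-/

set_option autoImplicit false
set_option linter.all false

namespace Cfsg.Agent.SymOdd

open Equiv Equiv.Perm Subgroup

variable {n : ℕ}

/-- The permutations preserving a relation. -/
def relStab {α : Type*} (R : α → α → Prop) : Subgroup (Perm α) where
  carrier := {σ | ∀ x y, R (σ x) (σ y) ↔ R x y}
  one_mem' := fun x y => Iff.rfl
  mul_mem' := fun {σ τ} hσ hτ x y => (hσ (τ x) (τ y)).trans (hτ x y)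
  inv_mem' := fun {σ} hσ x y => by
    have h := hσ (σ⁻¹ x) (σ⁻¹ y)
    simp only [← Perm.mul_apply, mul_inv_cancel, Perm.one_apply] at h
    exact h.symm

theorem relStab_ne {R : Fin n → Fin n → Prop} (hR : Equivalence R) (hn : 4 ≤ n) {a a' b : Fin n}
    (hne : a ≠ a') (haa : R a a') (hab : ¬ R a b) :
    ∃ σ ∈ alternatingGroup (Fin n), σ ∉ relStab R := by
  have hba : a ≠ b := fun e => hab (e ▸ hR.refl a)
  have hba' : b ≠ a' := fun e => hab (e ▸ haa)
  obtain ⟨c, hc⟩ : ∃ c, c ∉ ({a, a', b} : Finset (Fin n)) := by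
    by_contra hcon
    push Not at hcon
    have h : (Finset.univ : Finset (Fin n)).card ≤ ({a, a', b} : Finset (Fin n)).card :=
      Finset.card_le_card fun x _ => hcon x
    rw [Finset.card_univ, Fintype.card_fin] at h
    have := h.trans Finset.card_le_three
    omega
  simp only [Finset.mem_insert, Finset.mem_singleton, not_or] at hc
  obtain ⟨hca, hca', hcb⟩ := hc
  refine ⟨cyc a b c, (cyc_isThreeCycle hba (Ne.symm hca) (Ne.symm hcb)).mem_alternatingGroup, fun h => hab ?_⟩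
  have h' := (h a a').mpr haa
  rw [cyc_apply_left hba (Ne.symm hca), cyc_apply_of_ne hne.symm hba'.symm (Ne.symm hca')] at h'
  exact hR.trans haa (hR.symm h')

theorem cyc_mem_relStab {R : Fin n → Fin n → Prop} (hR : Equivalence R) {a b c : Fin n}
    (hab : R a b) (hbc : R b c) (h1 : a ≠ b) (h2 : a ≠ c) (h3 : b ≠ c) : cyc a b c ∈ relStab R := by
  have key : ∀ x, R x (cyc a b c x) := by
    intro x
    by_cases e1 : x = a
    · subst e1; rw [cyc_apply_left h1 h2]; exact hab
    by_cases e2 : x = b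
    · subst e2; rw [cyc_apply_mid h2 h3]; exact hbc
    by_cases e3 : x = c
    · subst e3; rw [cyc_apply_right]; exact hR.symm (hR.trans hab hbc)
    rw [cyc_apply_of_ne e1 e2 e3]; exact hR.refl x
  intro x y
  exact ⟨fun h => hR.trans (key x) (hR.trans h (hR.symm (key y))),
    fun h => hR.trans (hR.symm (key x)) (hR.trans h (key y))⟩

theorem full_mono {α : Type*} [DecidableEq α] [Fintype α] {G : Subgroup (Perm α)} {D D' : Finset α}
    (h : D' ⊆ D) (hD : Full G D) : Full G D' :=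
  fun a ha b hb c hc => hD a (h ha) b (h hb) c (h hc)

theorem alt_le_of_full_univ {α : Type*} [DecidableEq α] [Fintype α] {G : Subgroup (Perm α)}
    (h : Full G Finset.univ) : alternatingGroup α ≤ G := by
  rw [← closure_three_cycles_eq_alternating, closure_le]
  intro σ hσ
  obtain ⟨a, b, c, hab, hac, hbc, rfl⟩ := exists_cyc hσ
  exact h a (Finset.mem_univ a) b (Finset.mem_univ b) c (Finset.mem_univ c) hab hac hbc

theorem swaps3_apply {α : Type*} [DecidableEq α] {x x₂ x₃ y y₂ y₃ : α}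
    (hx2 : x ≠ x₂) (hx3 : x ≠ x₃) (hxy2 : x ≠ y₂) (hxy3 : x ≠ y₃) :
    (swap x y * swap x₂ y₂ * swap x₃ y₃ * swap x₂ x₃) x = y := by
  rw [Perm.mul_apply, swap_apply_of_ne_of_ne hx2 hx3, Perm.mul_apply, swap_apply_of_ne_of_ne hx3 hxy3,
    Perm.mul_apply, swap_apply_of_ne_of_ne hx2 hxy2, swap_apply_left]

theorem inv_two_three {G : Type*} [Group G] {g : G} {k : ℕ} (h2 : g * g = 1) (h3 : g ^ 3 ^ k = 1) :
    g = 1 := by
  obtain ⟨j, hj⟩ : Odd (3 ^ k) := (show Odd 3 by decide).pow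
  rw [hj, pow_succ, pow_mul, sq, h2, one_pow, one_mul] at h3
  exact h3

variable (T : Subgroup (Perm (Fin n)))

/-- Two points lie in the support of a common three cycle of `T`. -/
def triRel (x y : Fin n) : Prop :=
  x = y ∨ ∃ a b c, a ≠ b ∧ a ≠ c ∧ b ≠ c ∧ cyc a b c ∈ T ∧
    x ∈ ({a, b, c} : Finset (Fin n)) ∧ y ∈ ({a, b, c} : Finset (Fin n))

variable {T}

theorem tri_eq (hT : IsPGroup 3 T) {a b c a' b' c' : Fin n} (hab : a ≠ b) (hac : a ≠ c) (hbc : b ≠ c)
    (h : cyc a b c ∈ T) (hab' : a' ≠ b') (hac' : a' ≠ c') (hbc' : b' ≠ c') (h' : cyc a' b' c' ∈ T)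
    (hm : ∃ x ∈ ({a, b, c} : Finset (Fin n)), x ∈ ({a', b', c'} : Finset (Fin n))) :
    ({a, b, c} : Finset (Fin n)) = {a', b', c'} := by
  have c1 : ({a, b, c} : Finset (Fin n)).card = 3 := Finset.card_eq_three.mpr ⟨a, b, c, hab, hac, hbc, rfl⟩
  have c2 : ({a', b', c'} : Finset (Fin n)).card = 3 :=
    Finset.card_eq_three.mpr ⟨a', b', c', hab', hac', hbc', rfl⟩
  by_contra hne
  have hU := full_union (full_triple hab hac hbc h) (full_triple hab' hac' hbc' h') c1.ge c2.ge hm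
  obtain ⟨d, hd, hd'⟩ : ∃ d ∈ ({a', b', c'} : Finset (Fin n)), d ∉ ({a, b, c} : Finset (Fin n)) := by
    by_contra hcon
    push Not at hcon
    exact hne (Finset.eq_of_subset_of_card_le hcon (by rw [c1, c2])).symm
  simp only [Finset.mem_insert, Finset.mem_singleton, not_or] at hd'
  obtain ⟨hda, hdb, hdc⟩ := hd'
  have hdU : d ∈ ({a, b, c} : Finset (Fin n)) ∪ {a', b', c'} := Finset.mem_union_right _ hd
  have e2 : cyc a b d ∈ T := hU a (by simp) b (by simp) d hdU hab (Ne.symm hda) (Ne.symm hdb)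
  have hsa : (cyc a b c * cyc a b d) a = c := by
    rw [Perm.mul_apply, cyc_apply_left hab (Ne.symm hda), cyc_apply_mid hac hbc]
  have hsq : (cyc a b c * cyc a b d) * (cyc a b c * cyc a b d) = 1 := by
    have hsb : (cyc a b c * cyc a b d) b = d := by
      rw [Perm.mul_apply, cyc_apply_mid (Ne.symm hda) (Ne.symm hdb), cyc_apply_of_ne hda hdb hdc]
    have hsc : (cyc a b c * cyc a b d) c = a := by
      rw [Perm.mul_apply, cyc_apply_of_ne hac.symm hbc.symm (Ne.symm hdc), cyc_apply_right]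
    have hsd : (cyc a b c * cyc a b d) d = b := by
      rw [Perm.mul_apply, cyc_apply_right, cyc_apply_left hab hac]
    ext x
    rw [Perm.mul_apply (cyc a b c * cyc a b d), Perm.one_apply]
    by_cases x1 : x = a
    · rw [x1, hsa, hsc]
    by_cases x2 : x = b
    · rw [x2, hsb, hsd]
    by_cases x3 : x = c
    · rw [x3, hsc, hsa]
    by_cases x4 : x = d
    · rw [x4, hsd, hsb]
    have e : (cyc a b c * cyc a b d) x = x := by
      rw [Perm.mul_apply, cyc_apply_of_ne x1 x2 x4, cyc_apply_of_ne x1 x2 x3]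
    rw [e, e]
  obtain ⟨k, hk⟩ := hT ⟨_, mul_mem h e2⟩
  have := inv_two_three hsq (congrArg Subtype.val hk)
  rw [this, Perm.one_apply] at hsa
  exact hac hsa

theorem triRel_equiv (hT : IsPGroup 3 T) : Equivalence (triRel T) where
  refl x := Or.inl rfl
  symm := by
    rintro x y (rfl | ⟨a, b, c, h1, h2, h3, h, hx, hy⟩)
    · exact Or.inl rfl
    · exact Or.inr ⟨a, b, c, h1, h2, h3, h, hy, hx⟩
  trans := by
    rintro x y z (rfl | ⟨a, b, c, h1, h2, h3, h, hx, hy⟩) hyz
    · exact hyz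
    rcases hyz with rfl | ⟨a', b', c', h1', h2', h3', h', hy', hz⟩
    · exact Or.inr ⟨a, b, c, h1, h2, h3, h, hx, hy⟩
    · refine Or.inr ⟨a, b, c, h1, h2, h3, h, hx, ?_⟩
      rw [tri_eq hT h1 h2 h3 h h1' h2' h3' h' ⟨y, hy, hy'⟩]
      exact hz

theorem mem_relStab_triRel {σ : Perm (Fin n)} (hσ : σ ∈ T) : σ ∈ relStab (triRel T) := by
  have key : ∀ g ∈ T, ∀ x y, triRel T x y → triRel T (g x) (g y) := by
    rintro g hg x y (rfl | ⟨a, b, c, h1, h2, h3, h, hx, hy⟩)
    · exact Or.inl rfl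
    refine Or.inr ⟨g a, g b, g c, fun e => h1 (g.injective e), fun e => h2 (g.injective e),
      fun e => h3 (g.injective e), ?_, ?_, ?_⟩
    · rw [← cyc_conj]; exact mul_mem (mul_mem hg h) (inv_mem hg)
    · simp only [Finset.mem_insert, Finset.mem_singleton] at hx ⊢
      rcases hx with rfl | rfl | rfl <;> simp
    · simp only [Finset.mem_insert, Finset.mem_singleton] at hy ⊢
      rcases hy with rfl | rfl | rfl <;> simp
  intro x y
  refine ⟨fun h => ?_, key σ hσ x y⟩
  have := key σ⁻¹ (inv_mem hσ) _ _ h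
  simpa using this

/-- The orbit relation of `T`. -/
def orbRel (T : Subgroup (Perm (Fin n))) (x y : Fin n) : Prop := ∃ t ∈ T, t x = y

theorem orbRel_equiv : Equivalence (orbRel T) where
  refl x := ⟨1, one_mem _, rfl⟩
  symm := by
    rintro x y ⟨t, ht, rfl⟩
    exact ⟨t⁻¹, inv_mem ht, by simp⟩
  trans := by
    rintro x y z ⟨t, ht, rfl⟩ ⟨s, hs, rfl⟩
    exact ⟨s * t, mul_mem hs ht, rfl⟩

theorem mem_relStab_orbRel {σ : Perm (Fin n)} (hσ : ∀ t ∈ T, σ * t * σ⁻¹ ∈ T)
    (hσ' : ∀ t ∈ T, σ⁻¹ * t * σ ∈ T) : σ ∈ relStab (orbRel T) := by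
  intro x y
  constructor
  · rintro ⟨t, ht, e⟩
    exact ⟨_, hσ' t ht, by rw [Perm.mul_apply, Perm.mul_apply, e, ← Perm.mul_apply, inv_mul_cancel, Perm.one_apply]⟩
  · rintro ⟨t, ht, rfl⟩
    exact ⟨_, hσ t ht, by simp [Perm.mul_apply]⟩

theorem card_orb (hT : IsPGroup 3 T) (x : Fin n) [DecidablePred (orbRel T x)] :
    ∃ k, (Finset.univ.filter (orbRel T x)).card = 3 ^ k := by
  haveI : Fact (Nat.Prime 3) := ⟨Nat.prime_three⟩
  obtain ⟨k, hk⟩ := hT.card_orbit x
  refine ⟨k, ?_⟩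
  rw [← hk, ← Nat.card_eq_finsetCard]
  refine Nat.card_congr (Equiv.subtypeEquivRight fun y => ?_)
  simp only [Finset.mem_filter, Finset.mem_univ, true_and, MulAction.mem_orbit_iff]
  exact ⟨fun ⟨t, ht, e⟩ => ⟨⟨t, ht⟩, e⟩, fun ⟨t, e⟩ => ⟨t, t.2, e⟩⟩

/-- Merging: a part is moved across by exchanging two triples. -/
theorem full_merge {G : Subgroup (Perm (Fin n))} {R : Fin n → Fin n → Prop} (hR : Equivalence R)
    (hG : relStab R ⊓ alternatingGroup (Fin n) ≤ G) (htri : ∀ x, ∃ a b : Fin n, x ≠ a ∧ x ≠ b ∧ a ≠ b ∧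
      R x a ∧ R x b ∧ ∀ y, R x y → y = x ∨ y = a ∨ y = b)
    {O Q : Finset (Fin n)} (hO : Full G O) (hQ : Full G Q) (hO7 : 7 ≤ O.card) (hQ3 : 3 ≤ Q.card)
    (hd : Disjoint O Q) : Full G (O ∪ Q) := by
  obtain ⟨x, hx⟩ : O.Nonempty := Finset.card_pos.mp (by omega)
  obtain ⟨x₂, x₃, x12, x13, x23, r2, r3, hxc⟩ := htri x
  obtain ⟨y, hy, hxy⟩ : ∃ y ∈ Q, ¬ R x y := by
    by_contra hcon
    push Not at hcon
    have hsub : Q ⊆ {x₂, x₃} := fun z hz => by
      simp only [Finset.mem_insert, Finset.mem_singleton]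
      rcases hxc z (hcon z hz) with rfl | h
      · exact absurd hz (Finset.disjoint_left.mp hd hx)
      · exact h
    have := (Finset.card_le_card hsub).trans Finset.card_le_two
    omega
  obtain ⟨y₂, y₃, y12, y13, y23, s2, s3, hyc⟩ := htri y
  have cross : ∀ u v, R x u → R y v → u ≠ v := fun u v hu hv e =>
    hxy (hR.trans hu (e ▸ hR.symm hv))
  set τ : Perm (Fin n) := swap x y * swap x₂ y₂ * swap x₃ y₃ * swap x₂ x₃ with hτ
  have hτx : τ x = y :=
    swaps3_apply x12 x13 (cross x y₂ (hR.refl x) s2) (cross x y₃ (hR.refl x) s3)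
  have hfix : ∀ z, ¬ R x z → ¬ R y z → τ z = z := by
    intro z hzx hzy
    have k : ∀ u, R x u → z ≠ u := fun u hu e => hzx (e ▸ hu)
    have k' : ∀ v, R y v → z ≠ v := fun v hv e => hzy (e ▸ hv)
    rw [hτ, Perm.mul_apply, swap_apply_of_ne_of_ne (k _ r2) (k _ r3), Perm.mul_apply,
      swap_apply_of_ne_of_ne (k _ r3) (k' _ s3), Perm.mul_apply,
      swap_apply_of_ne_of_ne (k _ r2) (k' _ s2),
      swap_apply_of_ne_of_ne (k _ (hR.refl x)) (k' _ (hR.refl y))]
  have himg : ∀ z, (R x z → R y (τ z)) ∧ (R y z → R x (τ z)) := by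
    intro z
    have hy0 := hR.refl y
    have hx0 := hR.refl x
    constructor <;> intro hz
    · rcases hxc z hz with rfl | rfl | rfl
      · rw [hτx]; exact hy0
      · rw [hτ, Perm.mul_apply, swap_apply_left, Perm.mul_apply, swap_apply_left, Perm.mul_apply,
          swap_apply_of_ne_of_ne (cross _ _ r2 s3).symm y23.symm,
          swap_apply_of_ne_of_ne (cross _ _ hx0 s3).symm y13.symm]
        exact s3
      · rw [hτ, Perm.mul_apply, swap_apply_right, Perm.mul_apply,
          swap_apply_of_ne_of_ne x23 (cross _ _ r2 s3), Perm.mul_apply, swap_apply_left,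
          swap_apply_of_ne_of_ne (cross _ _ hx0 s2).symm y12.symm]
        exact s2
    · rcases hyc z hz with rfl | rfl | rfl
      · rw [hτ, Perm.mul_apply, swap_apply_of_ne_of_ne (cross _ _ r2 hy0).symm (cross _ _ r3 hy0).symm,
          Perm.mul_apply, swap_apply_of_ne_of_ne (cross _ _ r3 hy0).symm y13, Perm.mul_apply,
          swap_apply_of_ne_of_ne (cross _ _ r2 hy0).symm y12, swap_apply_right]
        exact hx0
      · rw [hτ, Perm.mul_apply, swap_apply_of_ne_of_ne (cross _ _ r2 s2).symm (cross _ _ r3 s2).symm,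
          Perm.mul_apply, swap_apply_of_ne_of_ne (cross _ _ r3 s2).symm y23, Perm.mul_apply,
          swap_apply_right, swap_apply_of_ne_of_ne x12.symm (cross _ _ r2 hy0)]
        exact r2
      · rw [hτ, Perm.mul_apply, swap_apply_of_ne_of_ne (cross _ _ r2 s3).symm (cross _ _ r3 s3).symm,
          Perm.mul_apply, swap_apply_right, Perm.mul_apply,
          swap_apply_of_ne_of_ne x23.symm (cross _ _ r3 s2),
          swap_apply_of_ne_of_ne x13.symm (cross _ _ r3 hy0)]
        exact r3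
  have hτR : τ ∈ relStab R := by
    intro u v
    have fwd : ∀ z, (R x z ∧ R y (τ z)) ∨ (R y z ∧ R x (τ z)) ∨ (¬ R x z ∧ ¬ R y z ∧ τ z = z) := by
      intro z
      by_cases h1 : R x z
      · exact Or.inl ⟨h1, (himg z).1 h1⟩
      by_cases h2 : R y z
      · exact Or.inr (Or.inl ⟨h2, (himg z).2 h2⟩)
      exact Or.inr (Or.inr ⟨h1, h2, hfix z h1 h2⟩)
    have sy : ∀ {p q}, R p q → R q p := fun h => hR.symm h
    have tr : ∀ {p q r}, R p q → R q r → R p r := fun h h' => hR.trans h h'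
    rcases fwd u with ⟨u1, u2⟩ | ⟨u1, u2⟩ | ⟨u1, u2, u3⟩ <;>
      rcases fwd v with ⟨v1, v2⟩ | ⟨v1, v2⟩ | ⟨v1, v2', v3⟩
    · exact ⟨fun _ => tr (sy u1) v1, fun _ => tr (sy u2) v2⟩
    · exact ⟨fun h => absurd (tr v2 (tr (sy h) (sy u2))) hxy,
        fun h => absurd (tr u1 (tr h (sy v1))) hxy⟩
    · rw [v3]
      exact ⟨fun h => absurd (tr u2 h) v2', fun h => absurd (tr u1 h) v1⟩
    · exact ⟨fun h => absurd (tr u2 (tr h (sy v2))) hxy, fun h => absurd (tr v1 (tr (sy h) (sy u1))) hxy⟩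
    · exact ⟨fun _ => tr (sy u1) v1, fun _ => tr (sy u2) v2⟩
    · rw [v3]
      exact ⟨fun h => absurd (tr u2 h) v1, fun h => absurd (tr u1 h) v2'⟩
    · rw [u3]
      exact ⟨fun h => absurd (tr v2 (sy h)) u2, fun h => absurd (tr v1 (sy h)) u1⟩
    · rw [u3]
      exact ⟨fun h => absurd (tr v2 (sy h)) u1, fun h => absurd (tr v1 (sy h)) u2⟩
    · rw [u3, v3]
  have hτA : τ ∈ alternatingGroup (Fin n) := by
    rw [Equiv.Perm.mem_alternatingGroup, hτ, map_mul, map_mul, map_mul,
      sign_swap (cross x y (hR.refl x) (hR.refl y)), sign_swap (cross _ _ r2 s2),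
      sign_swap (cross _ _ r3 s3), sign_swap x23]
    decide
  have hτG : τ ∈ G := hG (mem_inf.mpr ⟨hτR, hτA⟩)
  have hO' : Full G (O.image τ) := by
    intro a ha b hb c hc hab hac hbc
    simp only [Finset.mem_image] at ha hb hc
    obtain ⟨a, ha, rfl⟩ := ha
    obtain ⟨b, hb, rfl⟩ := hb
    obtain ⟨c, hc, rfl⟩ := hc
    rw [← cyc_conj]
    exact mul_mem (mul_mem hτG (hO a ha b hb c hc (fun e => hab (congrArg τ e))
      (fun e => hac (congrArg τ e)) (fun e => hbc (congrArg τ e)))) (inv_mem hτG)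
  obtain ⟨z, hz, hzn⟩ : ∃ z ∈ O, z ∉ ({x, x₂, x₃, y, y₂, y₃} : Finset (Fin n)) := by
    by_contra hcon
    push Not at hcon
    have := (Finset.card_le_card hcon).trans Finset.card_le_six
    omega
  simp only [Finset.mem_insert, Finset.mem_singleton, not_or] at hzn
  have hzfix : τ z = z := hfix z (fun h => by rcases hxc z h with e | e | e <;> simp_all)
    (fun h => by rcases hyc z h with e | e | e <;> simp_all)
  have h7 : 3 ≤ (O.image τ).card := by rw [Finset.card_image_of_injective _ τ.injective]; omega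
  have h1 := full_union hO hO' (by omega) h7 ⟨z, hz, Finset.mem_image.mpr ⟨z, hz, hzfix⟩⟩
  have hc1 : 3 ≤ (O ∪ O.image τ).card := by
    have := Finset.card_le_card (Finset.subset_union_left : O ⊆ O ∪ O.image τ)
    omega
  have h2 := full_union h1 hQ hc1 hQ3 ⟨y, Finset.mem_union_right _ (Finset.mem_image.mpr ⟨x, hx, hτx⟩), hy⟩
  exact full_mono (Finset.union_subset_union Finset.subset_union_left (Finset.Subset.refl _)) h2

/-- A union of full parts all overlapping a big one. -/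
theorem full_univ_of_parts {α : Type*} [DecidableEq α] [Fintype α] {G : Subgroup (Perm α)} (P : Finset (Finset α)) :
    ∀ {O : Finset α}, Full G O → 3 ≤ O.card → (∀ Q ∈ P, Full G (O ∪ Q)) → Full G (O ∪ P.biUnion id) := by
  induction P using Finset.induction with
  | empty => intro O hO _ _; simpa using hO
  | @insert Q P hQ ih =>
    intro O hO h3 hP
    have h1 := ih hO h3 fun Q' hQ' => hP Q' (Finset.mem_insert_of_mem hQ')
    have h2 := hP Q (Finset.mem_insert_self _ _)
    obtain ⟨z, hz⟩ := Finset.card_pos.mp (show 0 < O.card by omega)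
    have := full_union h1 h2 (h3.trans (Finset.card_le_card Finset.subset_union_left))
      (h3.trans (Finset.card_le_card Finset.subset_union_left))
      ⟨z, Finset.mem_union_left _ hz, Finset.mem_union_left _ hz⟩
    refine full_mono ?_ this
    intro w hw
    simp only [Finset.mem_union, Finset.biUnion_insert, id] at hw ⊢
    tauto

end Cfsg.Agent.SymOdd
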