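import Mathlib
import Cfsg.Agent.SymOdd.ThreeMin

/-!
The degree of an alternating group whose Sylow 3-subgroup lies in a unique maximal subgroup.
-/

set_option autoImplicit false
set_option linter.all false

namespace Cfsg.Agent.SymOdd

open Equiv Equiv.Perm Subgroup

variable {n : ℕ}

theorem exists_cycles (Q : Sylow 3 (Perm (Fin n))) :
    ∃ r : Fin (n / 3) → Fin 3 → Fin n, Function.Injective (fun ij : Fin (n / 3) × Fin 3 => r ij.1 ij.2) ∧
      ∀ i, cyc (r i 0) (r i 1) (r i 2) ∈ (Q : Subgroup (Perm (Fin n))) := by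
  classical
  let a := n / 3
  have hlt : ∀ i : Fin a, 3 * (i : ℕ) + 2 < n := fun i => by have := i.2; omega
  let q : Fin a → Fin 3 → Fin n := fun i j => ⟨3 * i + j, by have := hlt i; have := j.2; omega⟩
  have hq : ∀ i i' j j', q i j = q i' j' → i = i' ∧ j = j' := fun i i' j j' e => by
    have := congrArg Fin.val e
    simp only [q] at this
    have := j.2
    have := j'.2
    exact ⟨Fin.ext (by omega), Fin.ext (by omega)⟩
  let β : Fin a → Perm (Fin n) := fun i => cyc (q i 0) (q i 1) (q i 2)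
  have hd : ∀ i, q i 0 ≠ q i 1 ∧ q i 0 ≠ q i 2 ∧ q i 1 ≠ q i 2 := fun i =>
    ⟨fun e => absurd (hq _ _ _ _ e).2 (by decide), fun e => absurd (hq _ _ _ _ e).2 (by decide),
      fun e => absurd (hq _ _ _ _ e).2 (by decide)⟩
  haveI : Fact (Nat.Prime 3) := ⟨Nat.prime_three⟩
  have hB : ∀ k, IsPGroup 3 ↥(closure (β '' {i | (i : ℕ) < k})) := by
    intro k
    induction k with
    | zero =>
      rw [show {i : Fin a | (i : ℕ) < 0} = ∅ by ext; simp, Set.image_empty, Subgroup.closure_empty]
      exact IsPGroup.of_bot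
    | succ k ih =>
      by_cases hk : k < a
      · rw [show {i : Fin a | (i : ℕ) < k + 1} = (insert (⟨k, hk⟩ : Fin a) {i : Fin a | (i : ℕ) < k} : Set (Fin a)) by
          ext i; simp [Fin.ext_iff]; omega, Set.image_insert_eq, Set.insert_eq, Subgroup.closure_union,
          ← zpowers_eq_closure]
        obtain ⟨h01, h02, h12⟩ := hd ⟨k, hk⟩
        refine IsPGroup.to_sup_of_normal_right' ?_ ih ?_
        · exact IsPGroup.of_card (n := 1) (by
            rw [Nat.card_zpowers, (cyc_isThreeCycle h01 h02 h12).orderOf, pow_one])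
        · rw [zpowers_le]
          refine centralizer_le_normalizer _ ?_
          rw [centralizer_closure, mem_centralizer_iff]
          rintro _ ⟨i, hi, rfl⟩
          refine (Perm.Disjoint.commute (f := β i) fun x => ?_).eq
          have hne : ∀ j j', q i j ≠ q ⟨k, hk⟩ j' := fun j j' e =>
            absurd (congrArg Fin.val (hq _ _ _ _ e).1) (Nat.ne_of_lt hi)
          by_cases h : ∃ j, x = q i j
          · obtain ⟨j, rfl⟩ := h
            exact Or.inr (cyc_apply_of_ne (hne j 0) (hne j 1) (hne j 2))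
          · push Not at h
            exact Or.inl (cyc_apply_of_ne (h 0) (h 1) (h 2))
      · rw [show {i : Fin a | (i : ℕ) < k + 1} = {i : Fin a | (i : ℕ) < k} by
          ext i; simp; have := i.2; omega]
        exact ih
  obtain ⟨S, hS⟩ := (hB a).exists_le_sylow
  obtain ⟨g, rfl⟩ := MulAction.exists_smul_eq (Perm (Fin n)) Q S
  refine ⟨fun i j => g⁻¹ (q i j), fun x y e => ?_, fun i => ?_⟩
  · exact Prod.ext (hq _ _ _ _ (g⁻¹.injective e)).1 (hq _ _ _ _ (g⁻¹.injective e)).2
  · have h := hS (subset_closure ⟨i, i.2, rfl⟩)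
    rw [Sylow.smul_def, Sylow.pointwise_smul_def, Subgroup.mem_pointwise_smul_iff_inv_smul_mem,
      ← map_inv, MulAut.smul_def, MulAut.conj_apply, cyc_conj] at h
    exact h

theorem triple_cover (Q : Sylow 3 (Perm (Fin n))) (hn : n % 3 = 0) (x : Fin n) :
    ∃ a b : Fin n, x ≠ a ∧ x ≠ b ∧ a ≠ b ∧ triRel (Q : Subgroup (Perm (Fin n))) x a ∧
      triRel (Q : Subgroup (Perm (Fin n))) x b ∧
      ∀ y, triRel (Q : Subgroup (Perm (Fin n))) x y → y = x ∨ y = a ∨ y = b := by
  classical
  haveI : Fact (Nat.Prime 3) := ⟨Nat.prime_three⟩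
  obtain ⟨r, hr, hrc⟩ := exists_cycles Q
  have hsurj : Function.Surjective (fun ij : Fin (n / 3) × Fin 3 => r ij.1 ij.2) :=
    ((Fintype.bijective_iff_injective_and_card _).2 ⟨hr, by simp; omega⟩).2
  obtain ⟨⟨i, j⟩, rfl⟩ := hsurj x
  have hd : ∀ j j', j ≠ j' → r i j ≠ r i j' := fun j j' hj e =>
    hj (Prod.ext_iff.mp (hr (a₁ := (i, j)) (a₂ := (i, j')) e)).2
  have hmem : ∀ j : Fin 3, r i j ∈ ({r i 0, r i 1, r i 2} : Finset (Fin n)) := by
    intro j; fin_cases j <;> simp
  have hrel : ∀ j' : Fin 3, triRel (Q : Subgroup (Perm (Fin n))) (r i j) (r i j') := fun j' =>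
    Or.inr ⟨_, _, _, hd 0 1 (by decide), hd 0 2 (by decide), hd 1 2 (by decide), hrc i, hmem j, hmem j'⟩
  refine ⟨r i (j + 1), r i (j + 2), hd _ _ ?_, hd _ _ ?_, hd _ _ ?_, hrel _, hrel _, ?_⟩
  · fin_cases j <;> (dsimp; decide)
  · fin_cases j <;> (dsimp; decide)
  · fin_cases j <;> (dsimp; decide)
  rintro y (rfl | ⟨a, b, c, h1, h2, h3, h, hx, hy⟩)
  · exact Or.inl rfl
  have e := tri_eq Q.2 h1 h2 h3 h (hd 0 1 (by decide)) (hd 0 2 (by decide)) (hd 1 2 (by decide)) (hrc i)
    ⟨r i j, hx, hmem j⟩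
  rw [e] at hy
  simp only [Finset.mem_insert, Finset.mem_singleton] at hy
  fin_cases j <;> rcases hy with rfl | rfl | rfl <;>
    first | exact Or.inl rfl | exact Or.inr (Or.inl rfl) | exact Or.inr (Or.inr rfl)

theorem unique_degree (hn : 5 ≤ n) (S : Sylow 3 (alternatingGroup (Fin n)))
    (huniq : ∃! M : Subgroup (alternatingGroup (Fin n)), IsCoatom M ∧
      (S : Subgroup (alternatingGroup (Fin n))) ≤ M) :
    n = 6 ∨ n = 9 ∨ ∃ a : ℕ, 2 ≤ a ∧ n = 3 ^ a + 1 := by
  classical
  haveI : Fact (Nat.Prime 3) := ⟨Nat.prime_three⟩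
  obtain ⟨M, ⟨hM, hSM⟩, hMu⟩ := huniq
  set G := M.map (alternatingGroup (Fin n)).subtype with hG
  -- the Sylow subgroup of the symmetric group
  obtain ⟨Q, hQ⟩ := (S.2.map (alternatingGroup (Fin n)).subtype).exists_le_sylow
  have hQA : (Q : Subgroup (Perm (Fin n))) ≤ (alternatingGroup (Fin n)) := by
    intro σ hσ
    obtain ⟨k, hk⟩ := Q.2 ⟨σ, hσ⟩
    have hk' : σ ^ 3 ^ k = 1 := congrArg Subtype.val hk
    rw [Equiv.Perm.mem_alternatingGroup]
    refine inv_two_three (k := k) ?_ (by rw [← map_pow, hk', map_one])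
    rcases Int.units_eq_one_or (Equiv.Perm.sign σ) with h | h <;> rw [h] <;> rfl
  have hQS : (Q : Subgroup (Perm (Fin n))).subgroupOf (alternatingGroup (Fin n)) = (S : Subgroup (alternatingGroup (Fin n))) :=
    S.is_maximal' Q.2.comap_subtype fun x hx => hQ ⟨x, hx, rfl⟩
  set T := (Q : Subgroup (Perm (Fin n))) with hT
  have hTp : IsPGroup 3 T := Q.2
  have hGA : G ≤ (alternatingGroup (Fin n)) := map_subtype_le M
  have hstab : ∀ {R : Fin n → Fin n → Prop}, (∀ t ∈ T, t ∈ relStab R) →
      (∃ σ ∈ (alternatingGroup (Fin n)), σ ∉ relStab R) → relStab R ⊓ (alternatingGroup (Fin n)) ≤ G := by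
    rintro R hTR ⟨σ, hσA, hσ⟩ τ ⟨hτ, hτA⟩
    rcases eq_top_or_exists_le_coatom ((relStab R).subgroupOf (alternatingGroup (Fin n))) with h | ⟨M', hM', hle⟩
    · exact absurd (h ▸ mem_top (⟨σ, hσA⟩ : (alternatingGroup (Fin n))) : (⟨σ, hσA⟩ : (alternatingGroup (Fin n))) ∈ (relStab R).subgroupOf (alternatingGroup (Fin n))) hσ
    · have : M' = M := hMu M' ⟨hM', fun x hx => hle (hTR x
        (show x ∈ T.subgroupOf (alternatingGroup (Fin n)) from hQS.symm ▸ hx))⟩
      exact ⟨⟨τ, hτA⟩, this ▸ hle hτ, rfl⟩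
  have hfalse : Full G Finset.univ → False := fun h => hM.1 (eq_top_iff.mpr fun x _ => by
    obtain ⟨y, hy, e⟩ := alt_le_of_full_univ h x.2
    rwa [← Subtype.ext e])
  have hclass : ∀ {R : Fin n → Fin n → Prop}, Equivalence R → relStab R ⊓ (alternatingGroup (Fin n)) ≤ G → ∀ (D : Finset (Fin n)),
      (∀ u ∈ D, ∀ v ∈ D, R u v) → Full G D := fun hR hle D hD a ha b hb c hc h1 h2 h3 =>
    hle (mem_inf.mpr ⟨cyc_mem_relStab hR (hD a ha b hb) (hD b hb c hc) h1 h2 h3,
      (cyc_isThreeCycle h1 h2 h3).mem_alternatingGroup⟩)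
  let cls : (Fin n → Fin n → Prop) → Fin n → Finset (Fin n) := fun R x => Finset.univ.filter (R x)
  have mcls : ∀ {R : Fin n → Fin n → Prop} {x y}, y ∈ cls R x ↔ R x y := by
    intro R x y; simp [cls]
  -- finishing: parts of size at least three, one of size at least seven
  have finish : n % 3 = 0 → ∀ {R : Fin n → Fin n → Prop}, Equivalence R → (∀ t ∈ T, t ∈ relStab R) →
      ∀ x₀ y₀, ¬ R x₀ y₀ → 7 ≤ (cls R x₀).card → (∀ x, 3 ≤ (cls R x).card) → False := by
    intro h3 R hR hTR x₀ y₀ hxy h7 hall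
    obtain ⟨a', ha', ha'x⟩ := Finset.exists_mem_ne (show 1 < (cls R x₀).card by omega) x₀
    have hR1 := hstab hTR (relStab_ne hR (by omega) ha'x.symm (mcls.mp ha') hxy)
    have hE := triRel_equiv (T := T) hTp
    have htri := triple_cover Q h3
    have hR2 : relStab (triRel T) ⊓ (alternatingGroup (Fin n)) ≤ G := by
      obtain ⟨a, b, hxa, hxb, hab, ra, rb, hc⟩ := htri x₀
      obtain ⟨w, hw⟩ : ∃ w, ¬ triRel T x₀ w := by
        by_contra hcon
        push Not at hcon
        have hsub : (Finset.univ : Finset (Fin n)) ⊆ {x₀, a, b} := fun w _ => by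
          simpa using hc w (hcon w)
        have := (Finset.card_le_card hsub).trans Finset.card_le_three
        rw [Finset.card_univ, Fintype.card_fin] at this
        omega
      exact hstab (fun t ht => mem_relStab_triRel ht) (relStab_ne hE (by omega) hxa ra hw)
    have hfull : ∀ x, Full G (cls R x) := fun x =>
      hclass hR hR1 _ fun u hu v hv => hR.trans (hR.symm (mcls.mp hu)) (mcls.mp hv)
    have hU := full_univ_of_parts (Finset.univ.image (cls R)) (hfull x₀) (by omega) (fun Q' hQ' => by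
      simp only [Finset.mem_image, Finset.mem_univ, true_and] at hQ'
      obtain ⟨y, rfl⟩ := hQ'
      by_cases hy : R x₀ y
      · refine full_mono ?_ (hfull x₀)
        intro w hw
        rcases Finset.mem_union.mp hw with h | h
        · exact h
        · exact mcls.mpr (hR.trans hy (mcls.mp h))
      · refine full_merge hE hR2 htri (hfull x₀) (hfull y) h7 (hall y) ?_
        rw [Finset.disjoint_left]
        exact fun w hw hw' => hy (hR.trans (mcls.mp hw) (hR.symm (mcls.mp hw'))))
    refine hfalse (full_mono ?_ hU)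
    intro w _
    refine Finset.mem_union_right _ (Finset.mem_biUnion.mpr ⟨cls R w, ?_, mcls.mpr (hR.refl w)⟩)
    exact Finset.mem_image_of_mem _ (Finset.mem_univ w)
  -- the orbits of `T`
  have hO := orbRel_equiv (T := T)
  have hTO : ∀ t ∈ T, t ∈ relStab (orbRel T) := fun t ht => mem_relStab_orbRel
    (fun s hs => mul_mem (mul_mem ht hs) (inv_mem ht)) (fun s hs => mul_mem (mul_mem (inv_mem ht) hs) ht)
  have hpow : ∀ x, ∃ k, (cls (orbRel T) x).card = 3 ^ k := fun x => by
    obtain ⟨k, hk⟩ := card_orb hTp x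
    exact ⟨k, by rw [← hk]⟩
  obtain ⟨r, hr, hrc⟩ := exists_cycles Q
  let i₀ : Fin (n / 3) := ⟨0, by omega⟩
  set z := r i₀ 0 with hz
  have hz1 : 1 < (cls (orbRel T) z).card := by
    refine Finset.one_lt_card.mpr ⟨z, mcls.mpr (hO.refl z), r i₀ 1, mcls.mpr ⟨_, hrc i₀, ?_⟩, ?_⟩
    · exact cyc_apply_left
        (fun e => absurd (Prod.ext_iff.mp (hr (a₁ := (i₀, 0)) (a₂ := (i₀, 1)) e)).2 (by simp))
        (fun e => absurd (Prod.ext_iff.mp (hr (a₁ := (i₀, 0)) (a₂ := (i₀, 2)) e)).2 (by simp))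
    · exact fun e => absurd (Prod.ext_iff.mp (hr (a₁ := (i₀, 0)) (a₂ := (i₀, 1)) e)).2 (by simp)
  obtain ⟨k, hk⟩ := hpow z
  have hk1 : 1 ≤ k := by
    rcases k with _ | k
    · rw [pow_zero] at hk; omega
    · omega
  have hk3 : 3 ≤ (cls (orbRel T) z).card := by
    rw [hk]; exact Nat.le_self_pow (by omega) 3
  -- at most two orbits
  by_cases hthree : ∃ x y, ¬ orbRel T z x ∧ ¬ orbRel T z y ∧ ¬ orbRel T x y
  · obtain ⟨x, y, hzx, hzy, hxy⟩ := hthree
    exfalso
    obtain ⟨z', hz', hz'z⟩ := Finset.exists_mem_ne hz1 z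
    have hfull : ∀ u w, ¬ orbRel T u z → ¬ orbRel T u w →
        Full G (Finset.univ.filter fun v => ¬ orbRel T u v) := by
      intro u w huz huw
      let R : Fin n → Fin n → Prop := fun v v' => (orbRel T u v ↔ orbRel T u v')
      have hR : Equivalence R := ⟨fun _ => Iff.rfl, Iff.symm, Iff.trans⟩
      have hTR : ∀ t ∈ T, t ∈ relStab R := fun t ht v v' => by
        have e : ∀ v, orbRel T u (t v) ↔ orbRel T u v := fun v =>
          ⟨fun h => hO.trans h (hO.symm ⟨t, ht, rfl⟩), fun h => hO.trans h ⟨t, ht, rfl⟩⟩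
        show (orbRel T u (t v) ↔ orbRel T u (t v')) ↔ _
        rw [e, e]
      have hz'u : ¬ orbRel T u z' := fun h => huz (hO.trans h (hO.symm (mcls.mp hz')))
      have hR1 := hstab hTR (relStab_ne hR (by omega) (a := z) (a' := z') (b := u) hz'z.symm
        (show orbRel T u z ↔ orbRel T u z' from ⟨fun h => absurd h huz, fun h => absurd h hz'u⟩)
        (fun h => huz ((show orbRel T u z ↔ orbRel T u u from h).mpr (hO.refl u))))
      refine hclass hR hR1 _ fun v hv v' hv' => ?_
      simp only [Finset.mem_filter, Finset.mem_univ, true_and] at hv hv'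
      exact ⟨fun h => absurd h hv, fun h => absurd h hv'⟩
    have f1 := hfull x y (fun h => hzx (hO.symm h)) hxy
    have f2 := hfull y x (fun h => hzy (hO.symm h)) (fun h => hxy (hO.symm h))
    have hsub : ∀ u, ¬ orbRel T u z → cls (orbRel T) z ⊆ Finset.univ.filter fun v => ¬ orbRel T u v := by
      intro u hu v hv
      simp only [Finset.mem_filter, Finset.mem_univ, true_and]
      exact fun h => hu (hO.trans h (hO.symm (mcls.mp hv)))
    have s1 := hsub x (fun h => hzx (hO.symm h))
    have s2 := hsub y (fun h => hzy (hO.symm h))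
    refine hfalse (full_mono ?_ (full_union f1 f2 (hk3.trans (Finset.card_le_card s1))
      (hk3.trans (Finset.card_le_card s2)) ⟨z, s1 (mcls.mpr (hO.refl z)), s2 (mcls.mpr (hO.refl z))⟩))
    intro v _
    simp only [Finset.mem_union, Finset.mem_filter, Finset.mem_univ, true_and]
    by_contra hcon
    push Not at hcon
    exact hxy (hO.trans hcon.1 (hO.symm hcon.2))
  push Not at hthree
  by_cases htwo : ∃ x, ¬ orbRel T z x
  · obtain ⟨x, hzx⟩ := htwo
    obtain ⟨j, hj⟩ := hpow x
    have hsum : n = 3 ^ k + 3 ^ j := by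
      have hu : cls (orbRel T) z ∪ cls (orbRel T) x = Finset.univ := Finset.eq_univ_of_forall fun v => by
        rw [Finset.mem_union, mcls, mcls]
        exact or_iff_not_imp_left.mpr fun h => hthree x v hzx h
      have hd : Disjoint (cls (orbRel T) z) (cls (orbRel T) x) := by
        rw [Finset.disjoint_left]
        exact fun v hv hv' => hzx (hO.trans (mcls.mp hv) (hO.symm (mcls.mp hv')))
      have := congrArg Finset.card hu
      rw [Finset.card_union_of_disjoint hd, hk, hj, Finset.card_univ, Fintype.card_fin] at this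
      exact this.symm
    rcases Nat.eq_zero_or_pos j with rfl | hj1
    · rcases k with _ | _ | k
      · omega
      · simp at hsum; omega
      · exact Or.inr (Or.inr ⟨k + 2, by omega, hsum⟩)
    by_cases h6 : n = 6
    · exact Or.inl h6
    exfalso
    have h3n : n % 3 = 0 := by
      rw [hsum]
      obtain ⟨a, rfl⟩ := Nat.exists_eq_add_of_le hk1
      obtain ⟨b, rfl⟩ := Nat.exists_eq_add_of_le hj1
      rw [pow_add, pow_add, pow_one]; omega
    have hcases : ∀ v, (cls (orbRel T) v).card = 3 ^ k ∨ (cls (orbRel T) v).card = 3 ^ j := by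
      intro v
      by_cases h : orbRel T z v
      · left; rw [← hk]; congr 1; ext w; rw [mcls, mcls]
        exact ⟨fun h' => hO.trans h h', fun h' => hO.trans (hO.symm h) h'⟩
      · right; rw [← hj]; congr 1; ext w; rw [mcls, mcls]
        have h2 := hthree x v hzx h
        exact ⟨fun h' => hO.trans h2 h', fun h' => hO.trans (hO.symm h2) h'⟩
    have hge : ∀ v, 3 ≤ (cls (orbRel T) v).card := fun v => by
      rcases hcases v with h | h <;> rw [h] <;> exact Nat.le_self_pow (by omega) 3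
    by_cases hkk : k = 1
    · have hj2 : 2 ≤ j := by
        by_contra hj2
        obtain rfl : j = 1 := by omega
        rw [hkk] at hsum; omega
      refine finish h3n hO hTO x z (fun h => hzx (hO.symm h)) ?_ hge
      rw [hj]
      calc 7 ≤ 3 ^ 2 := by norm_num
        _ ≤ 3 ^ j := Nat.pow_le_pow_right (by norm_num) hj2
    · refine finish h3n hO hTO z x hzx ?_ hge
      rw [hk]
      calc 7 ≤ 3 ^ 2 := by norm_num
        _ ≤ 3 ^ k := Nat.pow_le_pow_right (by norm_num) (by omega)
  push Not at htwo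
  have hnk : n = 3 ^ k := by
    rw [← hk, show cls (orbRel T) z = Finset.univ from Finset.eq_univ_of_forall fun v => mcls.mpr (htwo v),
      Finset.card_univ, Fintype.card_fin]
  by_cases h9 : n = 9
  · exact Or.inr (Or.inl h9)
  exfalso
  have hk27 : 27 ≤ n := by
    rcases k with _ | _ | _ | k
    · simp at hnk; omega
    · simp at hnk; omega
    · simp at hnk; omega
    · rw [hnk]
      calc 27 = 3 ^ 3 := by norm_num
        _ ≤ 3 ^ (k + 3) := Nat.pow_le_pow_right (by norm_num) (by omega)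
  -- a normal subgroup of index three with three orbits
  set S₀ := MulAction.stabilizer T z with hS₀
  have hidx : S₀.index = 3 ^ k := by
    rw [← hnk, hS₀, MulAction.index_stabilizer, ← Nat.card_coe_set_eq]
    rw [show MulAction.orbit T z = Set.univ from Set.eq_univ_of_forall fun v => by
      obtain ⟨t, ht, e⟩ := htwo v
      exact ⟨⟨t, ht⟩, e⟩]
    simp
  obtain ⟨e, he⟩ := hTp.exists_card_eq
  obtain ⟨s, hs⟩ := (hTp.to_subgroup S₀).exists_card_eq
  have hes : e = s + k := by
    have := S₀.card_mul_index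
    rw [hs, hidx, he, ← pow_add] at this
    exact (Nat.pow_right_injective (le_refl 2 |>.trans (by norm_num)) this).symm
  obtain ⟨M₀, hM₀c, hM₀⟩ := Sylow.exists_subgroup_card_pow_prime_le 3
    (show 3 ^ (e - 1) ∣ Nat.card T by rw [he]; exact pow_dvd_pow 3 (by omega)) S₀ hs (by omega)
  have hM₀i : M₀.index = 3 := by
    have := M₀.card_mul_index
    rw [hM₀c, he, show 3 ^ e = 3 ^ (e - 1) * 3 by rw [← pow_succ, Nat.sub_add_cancel (by omega : 1 ≤ e)]] at this
    exact Nat.eq_of_mul_eq_mul_left (by positivity) this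
  have hM₀n : M₀.Normal := normal_of_index_eq_minFac_card (by
    rw [hM₀i, he, Nat.Prime.pow_minFac Nat.prime_three (by omega)])
  set N := M₀.map T.subtype with hN
  have hNT : N ≤ T := map_subtype_le _
  have hNO := orbRel_equiv (T := N)
  have hTN : ∀ t ∈ T, t ∈ relStab (orbRel N) := fun t ht => mem_relStab_orbRel
    (fun s hs => by
      obtain ⟨s, hs, rfl⟩ := hs
      exact ⟨_, hM₀n.conj_mem s hs ⟨t, ht⟩, rfl⟩)
    (fun s hs => by
      obtain ⟨s, hs, rfl⟩ := hs
      refine ⟨_, hM₀n.conj_mem s hs ⟨t, ht⟩⁻¹, ?_⟩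
      simp)
  have hcard : 3 * (cls (orbRel N) z).card = n := by
    have horb : (cls (orbRel N) z).card = (MulAction.orbit M₀ z).ncard := by
      rw [← Nat.card_coe_set_eq, ← Nat.card_eq_finsetCard]
      refine Nat.card_congr (Equiv.subtypeEquivRight fun v => ?_)
      rw [mcls]
      exact ⟨fun ⟨t, ⟨t', ht', e'⟩, e⟩ => ⟨⟨t', ht'⟩, by rw [← e, ← e']; rfl⟩,
        fun ⟨t, e⟩ => ⟨_, ⟨t.1, t.2, rfl⟩, e⟩⟩
    rw [horb, ← MulAction.index_stabilizer,
      show MulAction.stabilizer M₀ z = S₀.subgroupOf M₀ from rfl]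
    show 3 * S₀.relIndex M₀ = n
    rw [← hM₀i, mul_comm, relIndex_mul_index hM₀, hidx, hnk]
  have hsame : ∀ v, (cls (orbRel N) v).card = (cls (orbRel N) z).card := by
    intro v
    obtain ⟨t, ht, rfl⟩ := htwo v
    rw [← Finset.card_image_of_injective (cls (orbRel N) z) t.injective]
    congr 1
    ext w
    simp only [mcls, Finset.mem_image]
    constructor
    · intro h
      refine ⟨t⁻¹ w, (hTN t ht z (t⁻¹ w)).mp (by rw [← Perm.mul_apply, mul_inv_cancel]; exact h), ?_⟩
      rw [← Perm.mul_apply, mul_inv_cancel, Perm.one_apply]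
    · rintro ⟨u, hu, rfl⟩
      exact (hTN t ht z u).mpr hu
  obtain ⟨y, hy⟩ : ∃ y, ¬ orbRel N z y := by
    by_contra hcon
    push Not at hcon
    rw [show cls (orbRel N) z = Finset.univ from Finset.eq_univ_of_forall fun v => mcls.mpr (hcon v),
      Finset.card_univ, Fintype.card_fin] at hcard
    omega
  exact finish (by omega) hNO hTN z y hy (by omega) fun v => by rw [hsame]; omega

end Cfsg.Agent.SymOdd
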