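import Cfsg.Agent.SymOdd.ThreeOver
import Cfsg.Agent.Layer.Components

/-!
# Permutation groups with many double transpositions

Common hypotheses for the overgroups of a Sylow 2-subgroup of an alternating group: `π` is an
involution with at most one fixed point and all products of two of its transpositions lie in `H`.
-/

namespace Cfsg.Agent.SymOdd

open Equiv Equiv.Perm Subgroup
open scoped commutatorElement

variable {α : Type*} [DecidableEq α] [Fintype α]

omit [DecidableEq α] [Fintype α] in
theorem perfect_fix {G : Type*} [Group G] {β : Type*} {L : Subgroup G} (hperf : ⁅L, L⁆ = L)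
    (f : G →* Perm β) (Z : Finset β) (hc : Z.card ≤ 4) (hinv : ∀ l ∈ L, ∀ z ∈ Z, f l z ∈ Z) :
    ∀ l ∈ L, ∀ z ∈ Z, f l z = z := by
  classical
  haveI hP : Group.IsPerfect ↥L := Subgroup.isPerfect_iff.mpr hperf
  have hiff : ∀ l : ↥L, ∀ z, f l z ∈ Z ↔ z ∈ Z := fun l z => by
    refine ⟨fun h => ?_, hinv l l.2 z⟩
    have := hinv _ (inv_mem l.2) _ h
    simpa using this
  let ρ : ↥L →* Perm {z // z ∈ Z} :=
    { toFun := fun l => (f l).subtypePerm (hiff l)
      map_one' := by ext z; simp
      map_mul' := fun a b => by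
        ext z
        show f ((a * b : ↥L) : G) (z : β) = f (a : G) (f (b : G) (z : β))
        rw [Subgroup.coe_mul, map_mul, Perm.mul_apply] }
  have hsolv : Group.IsSolvable (Perm {z // z ∈ Z}) :=
    perm_solvable_of_card_le_four (by simpa using hc)
  haveI : Group.IsPerfect ↥ρ.range := Group.IsPerfect.ofSurjective ρ.rangeRestrict_surjective
  haveI : Group.IsSolvable ↥ρ.range :=
    Group.isSolvable_of_isSolvable_injective (f := ρ.range.subtype) Subtype.coe_injective
  intro l hl z hz
  by_contra hne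
  haveI : Nontrivial ↥ρ.range := ⟨⟨⟨ρ ⟨l, hl⟩, ⟨_, rfl⟩⟩, 1, fun e => hne
    (congrArg Subtype.val (congrArg (fun u : Perm {z // z ∈ Z} => u ⟨z, hz⟩) (congrArg Subtype.val e)))⟩⟩
  exact Group.IsPerfect.not_isSolvable ↥ρ.range inferInstance

/-- The transposition of the pair of `x`. -/
abbrev pswap (π : Perm α) (x : α) : Perm α := swap x (π x)

/-- The data: an involution with at most one fixed point. -/
structure Pairing (π : Perm α) : Prop where
  inv : ∀ x, π (π x) = x
  fix : ∀ x y, π x = x → π y = y → x = y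

namespace Pairing

variable {π : Perm α} (hπ : Pairing π)
include hπ

omit [DecidableEq α] [Fintype α] in
theorem small_comm {g : Perm α} (hg : ∀ z, g z = z ∨ g z = π z) (z : α) : g (π z) = π (g z) := by
  rcases hg z with e | e <;> rcases hg (π z) with e' | e'
  · rw [e, e']
  · rw [hπ.inv] at e'
    rw [e]; exact (congrArg g (g.injective (e'.trans e.symm))).trans (e.trans (g.injective (e'.trans e.symm)).symm)
  · rw [e, hπ.inv, e']; exact g.injective (e'.trans e.symm)
  · rw [e, e']

/-- The subgroup of permutations moving no point out of its pair. -/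
def pairFix : Subgroup (Perm α) where
  carrier := {g | ∀ z, g z = z ∨ g z = π z}
  one_mem' := fun _ => Or.inl rfl
  mul_mem' := fun {g h} hg hh z => by
    show g (h z) = z ∨ g (h z) = π z
    rcases hh z with e | e <;> rw [e]
    · exact hg z
    · rw [hπ.small_comm hg]
      rcases hg z with e' | e' <;> rw [e']
      · exact Or.inr rfl
      · exact Or.inl (hπ.inv z)
  inv_mem' := fun {g} hg z => by
    obtain ⟨w, rfl⟩ := g.surjective z
    simp only [Perm.coe_inv, Equiv.symm_apply_apply]
    rcases hg w with e | e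
    · exact Or.inl e.symm
    · exact Or.inr (by rw [e, hπ.inv])

omit [DecidableEq α] [Fintype α] in
theorem mem_pairFix {g : Perm α} : g ∈ hπ.pairFix ↔ ∀ z, g z = z ∨ g z = π z := Iff.rfl

omit [DecidableEq α] [Fintype α] in
theorem pairFix_commute {g h : Perm α} (hg : g ∈ hπ.pairFix) (hh : h ∈ hπ.pairFix) :
    g * h = h * g := by
  ext z
  show g (h z) = h (g z)
  rcases hg z with e | e <;> rcases hh z with e' | e' <;>
    simp [e, e', hπ.small_comm hg, hπ.small_comm hh, hπ.inv]

omit [DecidableEq α] [Fintype α] in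
theorem pairFix_sq {g : Perm α} (hg : g ∈ hπ.pairFix) : g * g = 1 := by
  ext z
  show g (g z) = z
  rcases hg z with e | e <;> simp [e, hπ.small_comm hg, hπ.inv]

theorem pswap_mem (x : α) : pswap π x ∈ hπ.pairFix := by
  intro z
  simp only [pswap, swap_apply_def]
  split_ifs with h1 h2
  · subst h1; exact Or.inr rfl
  · subst h2; exact Or.inr (hπ.inv x).symm
  · exact Or.inl rfl

/-- Many points outside a small set. -/
theorem exists_outside {k : ℕ} (hn : 2 * k + 2 ≤ Fintype.card α) (F : Finset α) (hF : F.card ≤ k)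
    : ∃ w, π w ≠ w ∧ w ∉ F ∧ π w ∉ F := by
  by_contra hne
  push Not at hne
  have h1 : (Finset.univ.filter fun w => π w = w).card ≤ 1 := Finset.card_le_one.mpr fun a ha b hb =>
    hπ.fix a b (Finset.mem_filter.mp ha).2 (Finset.mem_filter.mp hb).2
  have hsub : (Finset.univ : Finset α) ⊆
      (Finset.univ.filter fun w => π w = w) ∪ F ∪ F.image π := by
    intro w _
    by_cases h : π w = w
    · simp [h]
    · by_cases h' : w ∈ F
      · simp [h']
      · exact Finset.mem_union_right _ (Finset.mem_image.mpr ⟨π w, hne w h h', hπ.inv w⟩)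
  have := Finset.card_le_card hsub
  have h2 := Finset.card_union_le ((Finset.univ.filter fun w => π w = w) ∪ F) (F.image π)
  have h3 := Finset.card_union_le (Finset.univ.filter fun w => π w = w) F
  have h4 : (F.image π).card ≤ F.card := Finset.card_image_le
  rw [Finset.card_univ] at this
  omega

/-- The support of a product of two pair transpositions. -/
theorem pswap_mul_ne {x y z : α} (hx : π x ≠ x) (hy : π y ≠ y) (h1 : y ≠ x) (h2 : y ≠ π x) :
    (pswap π x * pswap π y) z ≠ z ↔ z ∈ ({x, π x, y, π y} : Finset α) := by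
  have h3 : π y ≠ x := fun e => h2 (by rw [← e, hπ.inv])
  have h4 : π y ≠ π x := fun e => h1 (π.injective e)
  simp only [pswap, Perm.mul_apply, swap_apply_def, Finset.mem_insert, Finset.mem_singleton]
  grind

variable {H L : Subgroup (Perm α)} (hperf : ⁅L, L⁆ = L)
  (hW : ∀ x y, π x ≠ x → π y ≠ y → y ≠ x → y ≠ π x → pswap π x * pswap π y ∈ H)
include hperf hW

/-- Nothing perfect commutes with all products of two pair transpositions. -/
theorem centralized_false (hn : 6 ≤ Fintype.card α) (hne : ⁅L, L⁆ ≠ ⊥)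
    (hc : ∀ x y, π x ≠ x → π y ≠ y → y ≠ x → y ≠ π x → ∀ l ∈ L,
      Commute l (pswap π x * pswap π y)) : False := by
  have key : ∀ l ∈ L, ∀ x, π x ≠ x → l x = x ∨ l x = π x := by
    intro l hl x hx
    have hin : ∀ y, π y ≠ y → y ≠ x → y ≠ π x → l x ∈ ({x, π x, y, π y} : Finset α) := by
      intro y hy h1 h2
      rw [← hπ.pswap_mul_ne hx hy h1 h2, ← Perm.mul_apply, ← (hc x y hx hy h1 h2 l hl).eq,
        Perm.mul_apply]
      exact fun e => (hπ.pswap_mul_ne hx hy h1 h2).mpr (Finset.mem_insert_self x _) (l.injective e)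
    obtain ⟨y, hy, hyF, -⟩ := hπ.exists_outside (k := 2) hn {x, π x} Finset.card_le_two
    simp only [Finset.mem_insert, Finset.mem_singleton, not_or] at hyF
    obtain ⟨y', hy', hyF', hyF''⟩ := hπ.exists_outside (k := 2) hn {x, y}
      Finset.card_le_two
    simp only [Finset.mem_insert, Finset.mem_singleton, not_or] at hyF' hyF''
    have h1 := hin y hy hyF.1 hyF.2
    have h2 := hin y' hy' hyF'.1 (fun e => hyF''.1 (by rw [e, hπ.inv]))
    simp only [Finset.mem_insert, Finset.mem_singleton] at h1 h2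
    have := hπ.inv x
    have := hπ.inv y
    have := hπ.inv y'
    grind
  have hle : L ≤ hπ.pairFix := by
    intro l hl x
    by_cases hx : π x = x
    · left
      by_contra e
      have hlx : π (l x) ≠ l x := fun h => e (hπ.fix _ _ h hx)
      rcases key l⁻¹ (inv_mem hl) _ hlx with h | h <;>
        simp only [Perm.coe_inv, Equiv.symm_apply_apply] at h
      · exact e h.symm
      · exact e (by rw [← hπ.inv (l x), ← h, hx])
    · exact key l hl x hx
  exact hne (le_bot_iff.mp (commutator_le.mpr fun a ha b hb => by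
    rw [mem_bot, commutatorElement_eq_one_iff_commute]
    exact hπ.pairFix_commute (hle ha) (hle hb)))

/-- Nothing perfect preserves the pairs. -/
theorem preserving_false (hn : 6 ≤ Fintype.card α) (hqs : Cfsg.IsQuasisimple ↥L)
    (hnorm : ∀ h ∈ H, ∀ l ∈ L, h * l * h⁻¹ ∈ L)
    (hcomm : ∀ l ∈ L, ∀ z, l (π z) = π (l z)) : False := by
  have hne := Layer.qs_subgroup_not_abelian hqs
  have hA : L ≤ normalizer ((L ⊓ hπ.pairFix : Subgroup (Perm α)) : Set (Perm α)) := by
    intro g hg
    rw [mem_normalizer_iff]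
    have key : ∀ g ∈ L, ∀ a ∈ L ⊓ hπ.pairFix, g * a * g⁻¹ ∈ L ⊓ hπ.pairFix := by
      intro g hg a ha
      refine ⟨L.mul_mem (L.mul_mem hg ha.1) (L.inv_mem hg), fun z => ?_⟩
      obtain ⟨w, rfl⟩ := g.surjective z
      simp only [Perm.mul_apply, Perm.coe_inv, Equiv.symm_apply_apply]
      rcases ha.2 w with e | e <;> rw [e]
      · exact Or.inl rfl
      · exact Or.inr (hcomm g hg w)
    refine fun a => ⟨key g hg a, fun ha => ?_⟩
    have := key g⁻¹ (inv_mem hg) _ ha
    simpa [mul_assoc] using this
  rcases Layer.qs_sub_normalized_cases hqs inf_le_left hA with h | h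
  · refine hne (le_bot_iff.mp (commutator_le.mpr fun a ha b hb => ?_))
    rw [← h] at ha hb
    rw [mem_bot, commutatorElement_eq_one_iff_commute]
    exact hπ.pairFix_commute ha.2 hb.2
  refine hπ.centralized_false hperf hW hn hne fun x y hx hy h1 h2 l hl => ?_
  set t := pswap π x * pswap π y with ht
  have htf : t ∈ hπ.pairFix := mul_mem (hπ.pswap_mem x) (hπ.pswap_mem y)
  let c : Perm α → Perm α := fun m => t * m * t⁻¹ * m⁻¹
  have hcA : ∀ m ∈ L, c m ∈ L ⊓ hπ.pairFix := by
    intro m hm
    refine ⟨L.mul_mem (hnorm t (hW x y hx hy h1 h2) m hm) (L.inv_mem hm), ?_⟩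
    have : c m = t * (m * t⁻¹ * m⁻¹) := by simp only [c]; group
    rw [this]
    refine mul_mem htf fun z => ?_
    obtain ⟨w, rfl⟩ := m.surjective z
    simp only [Perm.mul_apply, Perm.coe_inv, Equiv.symm_apply_apply]
    rcases (inv_mem htf : t⁻¹ ∈ hπ.pairFix) w with e | e <;> rw [← Perm.coe_inv, e]
    · exact Or.inl rfl
    · exact Or.inr (hcomm m hm w)
  have hcen : ∀ m ∈ L, ∀ k ∈ L, Commute (c m) k := fun m hm k hk =>
    commutatorElement_eq_one_iff_commute.mp (mem_bot.mp (h ▸ commutator_mem_commutator (hcA m hm) hk))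
  have : L ≤ centralizer ({t} : Set (Perm α)) := by
    rw [← hperf]
    refine commutator_le.mpr fun a ha b hb => mem_centralizer_singleton_iff.mpr ?_
    have ea : t * a * t⁻¹ = c a * a := by simp only [c]; group
    have eb : t * b * t⁻¹ = c b * b := by simp only [c]; group
    have e : t * ⁅a, b⁆ * t⁻¹ = ⁅a, b⁆ := by
      rw [show t * ⁅a, b⁆ * t⁻¹ = ⁅t * a * t⁻¹, t * b * t⁻¹⁆ by simp only [commutatorElement_def]; group,
        ea, eb, commutatorElement_def, commutatorElement_def, mul_inv_rev, mul_inv_rev]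
      have u1 := hcen a ha b hb
      have u2 := hcen b hb a ha
      have u3 : Commute (c a) (c b) := hcen a ha _ (hcA b hb).1
      calc c a * a * (c b * b) * (a⁻¹ * (c a)⁻¹) * (b⁻¹ * (c b)⁻¹)
          = c a * c b * (a * b * a⁻¹) * (c a)⁻¹ * (b⁻¹ * (c b)⁻¹) := by
            rw [show c a * a * (c b * b) = c a * (a * c b) * b by group, ← u2.eq]; group
        _ = c a * c b * (c a)⁻¹ * (a * b * a⁻¹ * b⁻¹) * (c b)⁻¹ := by
            have : Commute (a * b * a⁻¹) (c a)⁻¹ :=
              ((hcen a ha _ (mul_mem (mul_mem ha hb) (inv_mem ha))).symm).inv_right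
            rw [mul_assoc (c a * c b), this.eq]; group
        _ = a * b * a⁻¹ * b⁻¹ := by
            have : Commute (a * b * a⁻¹ * b⁻¹) (c b)⁻¹ :=
              ((hcen b hb _ (mul_mem (mul_mem (mul_mem ha hb) (inv_mem ha)) (inv_mem hb))).symm).inv_right
            rw [u3.eq, mul_assoc _ (a * b * a⁻¹ * b⁻¹), this.eq]; group
    calc ⁅a, b⁆ * t = t * ⁅a, b⁆ * t⁻¹ * t := by rw [e]
      _ = t * ⁅a, b⁆ := by group
  exact mem_centralizer_singleton_iff.mp (this hl)

end Pairing

end Cfsg.Agent.SymOdd
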