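import Cfsg.Agent.SymOdd.TwoThree

/-!
# The degrees 8 and 9

A four-set is *good* when all three double transpositions on it lie in `H`. Without 3-cycles two good
sets never meet in 1 or 3 points.
-/

namespace Cfsg.Agent.SymOdd

open Equiv Equiv.Perm Subgroup
open scoped commutatorElement

variable {α : Type*} [DecidableEq α] [Fintype α] {H : Subgroup (Perm α)}

/-- A good four-set. -/
def Good (H : Subgroup (Perm α)) (X : Finset α) : Prop :=
  X.card = 4 ∧ ∀ a ∈ X, ∀ b ∈ X, ∀ c ∈ X, ∀ d ∈ X,
    a ≠ b → a ≠ c → a ≠ d → b ≠ c → b ≠ d → c ≠ d → swap a b * swap c d ∈ H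

theorem good_map {X : Finset α} (hX : Good H X) {h : Perm α} (hh : h ∈ H) :
    Good H (X.map h.toEmbedding) := by
  refine ⟨by rw [Finset.card_map, hX.1], ?_⟩
  simp only [Finset.mem_map]
  rintro _ ⟨a, ha, rfl⟩ _ ⟨b, hb, rfl⟩ _ ⟨c, hc, rfl⟩ _ ⟨d, hd, rfl⟩ h1 h2 h3 h4 h5 h6
  have := mul_mem (mul_mem hh (hX.2 a ha b hb c hc d hd (fun e => h1 (e ▸ rfl)) (fun e => h2 (e ▸ rfl))
    (fun e => h3 (e ▸ rfl)) (fun e => h4 (e ▸ rfl)) (fun e => h5 (e ▸ rfl)) (fun e => h6 (e ▸ rfl))))
    (inv_mem hh)
  have e : swap (h a) (h b) * swap (h c) (h d) = h * (swap a b * swap c d) * h⁻¹ := by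
    rw [swap_apply_apply, swap_apply_apply]; group
  exact e ▸ this

theorem good_inter (h3 : ¬ HasThree H) {X Y : Finset α} (hX : Good H X) (hY : Good H Y) :
    (X ∩ Y).card ≠ 1 ∧ (X ∩ Y).card ≠ 3 := by
  constructor <;> intro hc
  · obtain ⟨a, ha⟩ := Finset.card_eq_one.mp hc
    have haX : a ∈ X := Finset.mem_of_mem_inter_left (ha ▸ Finset.mem_singleton_self a)
    have haY : a ∈ Y := Finset.mem_of_mem_inter_right (ha ▸ Finset.mem_singleton_self a)
    obtain ⟨b, c, d, hbc, hbd, hcd, hX'⟩ := Finset.card_eq_three.mp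
      (show (X.erase a).card = 3 by rw [Finset.card_erase_of_mem haX, hX.1])
    obtain ⟨e, f, g, hef, heg, hfg, hY'⟩ := Finset.card_eq_three.mp
      (show (Y.erase a).card = 3 by rw [Finset.card_erase_of_mem haY, hY.1])
    have mX : ∀ x ∈ ({b, c, d} : Finset α), x ≠ a ∧ x ∈ X := fun x hx => by
      rw [← hX'] at hx; exact Finset.mem_erase.mp hx
    have mY : ∀ x ∈ ({e, f, g} : Finset α), x ≠ a ∧ x ∈ Y := fun x hx => by
      rw [← hY'] at hx; exact Finset.mem_erase.mp hx
    have hdis : ∀ x ∈ ({b, c, d} : Finset α), ∀ y ∈ ({e, f, g} : Finset α), x ≠ y := fun x hx y hy h =>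
      (mX x hx).1 (Finset.mem_singleton.mp (ha ▸ Finset.mem_inter.mpr ⟨(mX x hx).2, h ▸ (mY y hy).2⟩))
    obtain ⟨hba, hbX⟩ := mX b (by simp)
    obtain ⟨hca, hcX⟩ := mX c (by simp)
    obtain ⟨hda, hdX⟩ := mX d (by simp)
    obtain ⟨hea, heY⟩ := mY e (by simp)
    obtain ⟨hfa, hfY⟩ := mY f (by simp)
    obtain ⟨hga, hgY⟩ := mY g (by simp)
    have k := fun x (hx : x ∈ ({b, c, d} : Finset α)) y hy => hdis x hx y hy
    refine h3 (star (p := swap c d) (q := swap f g) hba.symm hea.symm (k b (by simp) e (by simp))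
      (fun x hx => ?_) (fun x hx => ?_) (swap_mul_self _ _) (swap_mul_self _ _)
      (swap_commute (k c (by simp) f (by simp)) (k c (by simp) g (by simp)) (k d (by simp) f (by simp))
        (k d (by simp) g (by simp)))
      (hX.2 a haX b hbX c hcX d hdX hba.symm hca.symm hda.symm hbc hbd hcd)
      (hY.2 a haY e heY f hfY g hgY hea.symm hfa.symm hga.symm hef heg hfg))
    · simp only [Finset.mem_insert, Finset.mem_singleton] at hx
      have h1 := k c (by simp) e (by simp)
      have h2 := k d (by simp) e (by simp)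
      simp only [swap_apply_def]
      grind
    · simp only [Finset.mem_insert, Finset.mem_singleton] at hx
      have h1 := k b (by simp) f (by simp)
      have h2 := k b (by simp) g (by simp)
      simp only [swap_apply_def]
      grind
  · obtain ⟨a, b, c, hab, hac, hbc, habc⟩ := Finset.card_eq_three.mp hc
    have m : ∀ x ∈ ({a, b, c} : Finset α), x ∈ X ∧ x ∈ Y := fun x hx => by
      rw [← habc] at hx; exact Finset.mem_inter.mp hx
    obtain ⟨d, hd⟩ := Finset.card_eq_one.mp (show (X \ Y).card = 1 by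
      have := Finset.card_sdiff_add_card_inter X Y; have := hX.1; omega)
    obtain ⟨e, he⟩ := Finset.card_eq_one.mp (show (Y \ X).card = 1 by
      have := Finset.card_sdiff_add_card_inter Y X
      rw [Finset.inter_comm] at this
      have := hY.1; omega)
    obtain ⟨hdX, hdY⟩ := Finset.mem_sdiff.mp (hd ▸ Finset.mem_singleton_self d : d ∈ X \ Y)
    obtain ⟨heY, heX⟩ := Finset.mem_sdiff.mp (he ▸ Finset.mem_singleton_self e : e ∈ Y \ X)
    obtain ⟨haX, haY⟩ := m a (by simp)
    obtain ⟨hbX, hbY⟩ := m b (by simp)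
    obtain ⟨hcX, hcY⟩ := m c (by simp)
    have had : a ≠ d := fun h => hdY (h ▸ haY)
    have hbd : b ≠ d := fun h => hdY (h ▸ hbY)
    have hcd : c ≠ d := fun h => hdY (h ▸ hcY)
    have hae : a ≠ e := fun h => heX (h ▸ haX)
    have hbe : b ≠ e := fun h => heX (h ▸ hbX)
    have hce : c ≠ e := fun h => heX (h ▸ hcX)
    have hde : d ≠ e := fun h => heX (h ▸ hdX)
    refine h3 ⟨_, mul_mem (hX.2 a haX b hbX c hcX d hdX hab hac had hbc hbd hcd)
      (hY.2 a haY b hbY c hcY e heY hab hac hae hbc hbe hce), ?_⟩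
    have e1 : swap a b * swap c d * (swap a b * swap c e) = cyc d c e := by
      rw [(swap_commute hac had hbc hbd).eq, mul_assoc, ← mul_assoc (swap a b), swap_mul_self, one_mul,
        cyc, swap_comm c d]
    rw [e1]
    exact cyc_isThreeCycle hcd.symm hde hce

namespace Pairing

variable {π : Perm α} (hπ : Pairing π)
include hπ

variable (hW : ∀ x y, π x ≠ x → π y ≠ y → y ≠ x → y ≠ π x → pswap π x * pswap π y ∈ H)
  (h3 : ¬ HasThree H)
include hW h3

theorem good_split {X : Finset α} (hX : Good H X) {x y : α} (hx : x ∈ X) (hx' : π x ∉ X)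
    (hy : π y ≠ y) (h1 : y ≠ x) (h2 : y ≠ π x) : (y ∈ X ↔ π y ∉ X) := by
  by_contra hne
  have hxx : π x ≠ x := fun e => hx' (by rwa [e])
  refine (good_inter h3 hX (good_map hX (hW x y hxx hy h1 h2))).2 ?_
  set t := pswap π x * pswap π y with ht
  have hyy : y ∈ X ↔ π y ∈ X := by tauto
  have hinv : ∀ z, t.symm z = t z := fun z => t.injective (by
    rw [Equiv.apply_symm_apply, ← Perm.mul_apply,
      hπ.pairFix_sq (mul_mem (hπ.pswap_mem x) (hπ.pswap_mem y)), Perm.one_apply])
  have e : X ∩ X.map t.toEmbedding = X.erase x := by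
    ext z
    rw [Finset.mem_inter, Finset.mem_map_equiv, Finset.mem_erase, hinv]
    have := hπ.inv x
    have := hπ.inv y
    simp only [ht, pswap, Perm.mul_apply, swap_apply_def]
    grind
  rw [e, Finset.card_erase_of_mem hx, hX.1]

theorem good_shape {U : Finset α} (hU : ∀ z, z ∈ U ↔ π z ≠ z) (hU8 : U.card = 8) {X : Finset α}
    (hX : Good H X) :
    X ⊆ U ∧ (X.map π.toEmbedding = X ∨ X.map π.toEmbedding = U \ X) := by
  have hsym : ∀ z, π.symm z = π z := fun z => π.injective (by rw [Equiv.apply_symm_apply, hπ.inv])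
  by_cases hs : ∃ x ∈ X, π x ∉ X
  · obtain ⟨x, hx, hx'⟩ := hs
    have hxx : π x ≠ x := fun e => hx' (by rwa [e])
    have hall : ∀ y ∈ U, (y ∈ X ↔ π y ∉ X) := by
      intro y hy
      by_cases h1 : y = x
      · subst h1; exact iff_of_true hx hx'
      by_cases h2 : y = π x
      · subst h2; rw [hπ.inv]; exact iff_of_false hx' (not_not.mpr hx)
      exact hπ.good_split hW h3 hX hx hx' ((hU y).mp hy) h1 h2
    have hUπ : ∀ y, y ∈ U ↔ π y ∈ U := fun y => by
      rw [hU, hU]; exact not_congr ⟨fun e => by rw [e, e], fun e => π.injective e⟩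
    have e1 : (X ∩ U).map π.toEmbedding = U \ X := by
      ext z
      rw [Finset.mem_map_equiv, hsym, Finset.mem_inter, Finset.mem_sdiff]
      constructor
      · rintro ⟨h1, h2⟩
        have h := (hall _ h2).mp h1
        rw [hπ.inv] at h
        exact ⟨(hUπ z).mpr h2, h⟩
      · rintro ⟨h1, h2⟩
        exact ⟨by_contra fun h => h2 ((hall z h1).mpr h), (hUπ z).mp h1⟩
    have hc := congrArg Finset.card e1
    rw [Finset.card_map] at hc
    have h4 : (X ∩ U).card = 4 := by
      have := Finset.card_sdiff_add_card_inter U X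
      rw [Finset.inter_comm] at this
      omega
    have hXU : X ∩ U = X := Finset.eq_of_subset_of_card_le Finset.inter_subset_left (by rw [hX.1, h4])
    rw [hXU] at e1
    exact ⟨Finset.inter_eq_left.mp hXU, Or.inr e1⟩
  · push Not at hs
    have e1 : X.map π.toEmbedding = X := by
      refine Finset.eq_of_subset_of_card_le (fun z hz => ?_) (by rw [Finset.card_map])
      rw [Finset.mem_map_equiv, hsym] at hz
      simpa [hπ.inv] using hs _ hz
    refine ⟨fun z hz => (hU z).mpr fun hz' => ?_, Or.inl e1⟩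
    have hne : ∀ w ∈ X.erase z, π w ≠ w := fun w hw e =>
      (Finset.mem_erase.mp hw).1 (hπ.fix _ _ e hz')
    obtain ⟨a, b, c, hab, hac, hbc, he⟩ := Finset.card_eq_three.mp
      (show (X.erase z).card = 3 by rw [Finset.card_erase_of_mem hz, hX.1])
    have hcl : ∀ w ∈ X.erase z, π w ∈ X.erase z := fun w hw =>
      Finset.mem_erase.mpr ⟨fun e => (Finset.mem_erase.mp hw).1 (by rw [← hπ.inv w, e, hz']),
        hs w (Finset.mem_erase.mp hw).2⟩
    rw [he] at hne hcl
    have h1 := hcl a (by simp)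
    have h2 := hcl b (by simp)
    have h4 := hcl c (by simp)
    have h5 := hne a (by simp)
    have h6 := hne b (by simp)
    have h7 := hne c (by simp)
    have := hπ.inv a
    have := hπ.inv b
    have := hπ.inv c
    simp only [Finset.mem_insert, Finset.mem_singleton] at h1 h2 h4
    grind

variable {L : Subgroup (Perm α)} (hqs : Cfsg.IsQuasisimple ↥L)
  (hnorm : ∀ h ∈ H, ∀ l ∈ L, h * l * h⁻¹ ∈ L)
  (hle : ∀ K : Subgroup (Perm α), K ≤ H → (∀ h ∈ H, ∀ k ∈ K, h * k * h⁻¹ ∈ K) →
    L ≤ K ∨ ∀ l ∈ L, ∀ k ∈ K, Commute l k)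
include hqs hnorm hle

theorem no_three_false_small (hn : 6 ≤ Fintype.card α) (hLH : L ≤ H) {A B : Finset α} (hA : Good H A)
    (hB : Good H B) (hAB : Disjoint A B) (hU : ∀ z, z ∈ A ∪ B ↔ π z ≠ z) (hπH : π ∈ H) : False := by
  have hperf := Layer.qs_subgroup_perfect hqs
  have hne := Layer.qs_subgroup_not_abelian hqs
  set U := A ∪ B with hUdef
  have hU8 : U.card = 8 := by rw [hUdef, Finset.card_union_of_disjoint hAB, hA.1, hB.1]
  let fs : Perm α →* Perm (Finset α) :=
    { toFun := fun g => g.finsetCongr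
      map_one' := by ext X z; simp [← Perm.coe_inv]
      map_mul' := fun a b => by
        ext X z
        simp [← Perm.coe_inv, mul_inv_rev, Perm.mul_apply] }
  have hfs : ∀ (g : Perm α) (X : Finset α), fs g X = X.map g.toEmbedding := fun g X => rfl
  have hUinv : ∀ h ∈ H, fs h U = U := by
    intro h hh
    rw [hfs]
    refine Finset.eq_of_subset_of_card_le ?_ (by rw [Finset.card_map])
    rw [hUdef, Finset.map_union]
    exact Finset.union_subset (hπ.good_shape hW h3 hU hU8 (good_map hA hh)).1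
      (hπ.good_shape hW h3 hU hU8 (good_map hB hh)).1
  let Nset : Set (Perm α) := {g | g ∈ H ∧ ∀ X, Good H X → fs g X = X ∨ fs g X = U \ X}
  have hdiff : ∀ g ∈ H, ∀ X, fs g (U \ X) = U \ fs g X := fun g hg X => by
    conv_rhs => rw [← hUinv g hg]
    rw [hfs, hfs, hfs]
    ext z
    simp [Finset.mem_map_equiv]
  have hflip : ∀ X : Finset α, X ⊆ U → U \ (U \ X) = X := fun X hX => by
    rw [Finset.sdiff_sdiff_self_left]; exact Finset.inter_eq_right.mpr hX
  let N : Subgroup (Perm α) :=
    { carrier := Nset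
      one_mem' := ⟨one_mem H, fun X _ => Or.inl (by rw [map_one, Perm.one_apply])⟩
      mul_mem' := fun {g g'} hg hg' => ⟨mul_mem hg.1 hg'.1, fun X hX => by
        rw [map_mul, Perm.mul_apply]
        rcases hg'.2 X hX with e | e <;> rw [e]
        · exact hg.2 X hX
        · rw [hdiff g hg.1]
          rcases hg.2 X hX with e' | e' <;> rw [e']
          · exact Or.inr rfl
          · exact Or.inl (hflip X (hπ.good_shape hW h3 hU hU8 hX).1)⟩
      inv_mem' := fun {g} hg => ⟨inv_mem hg.1, fun X hX => by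
        have hX' : Good H (fs g⁻¹ X) := by rw [hfs]; exact good_map hX (inv_mem hg.1)
        have e0 : fs g (fs g⁻¹ X) = X := by rw [← Perm.mul_apply, ← map_mul, mul_inv_cancel, map_one]; rfl
        rcases hg.2 _ hX' with e | e <;> rw [e0] at e
        · exact Or.inl e.symm
        · refine Or.inr ?_
          conv_rhs => rw [e]
          exact (hflip _ (hπ.good_shape hW h3 hU hU8 hX').1).symm⟩ }
  have hπN : π ∈ N := ⟨hπH, fun X hX => (hπ.good_shape hW h3 hU hU8 hX).2⟩
  have hNn : ∀ h ∈ H, ∀ k ∈ N, h * k * h⁻¹ ∈ N := by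
    intro h hh k hk
    refine ⟨mul_mem (mul_mem hh hk.1) (inv_mem hh), fun X hX => ?_⟩
    have hX' : Good H (fs h⁻¹ X) := by rw [hfs]; exact good_map hX (inv_mem hh)
    have e0 : fs h (fs h⁻¹ X) = X := by rw [← Perm.mul_apply, ← map_mul, mul_inv_cancel, map_one]; rfl
    rw [map_mul, map_mul, Perm.mul_apply, Perm.mul_apply]
    rcases hk.2 _ hX' with e | e <;> rw [e]
    · exact Or.inl e0
    · exact Or.inr (by rw [hdiff h hh, e0])
  rcases hle N (fun g hg => hg.1) hNn with h | h
  · have hAB' : ({A, B} : Finset (Finset α)).card ≤ 4 := Finset.card_le_two.trans (by norm_num)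
    have hUA : U \ A = B := by rw [hUdef, Finset.union_sdiff_cancel_left hAB]
    have hUB : U \ B = A := by rw [hUdef, Finset.union_sdiff_cancel_right hAB]
    have hfix := perfect_fix hperf fs {A, B} hAB' fun l hl X hX => by
      simp only [Finset.mem_insert, Finset.mem_singleton] at hX ⊢
      rcases hX with rfl | rfl
      · rcases (h hl).2 _ hA with e | e <;> rw [e]
        · exact Or.inl rfl
        · exact Or.inr hUA
      · rcases (h hl).2 _ hB with e | e <;> rw [e]
        · exact Or.inr rfl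
        · exact Or.inl hUB
    have hpt : ∀ X ∈ ({A, B} : Finset (Finset α)), ∀ l ∈ L, ∀ z ∈ X, l z = z := fun X hX => by
      refine perfect_fix hperf (MonoidHom.id _) X ?_ fun l hl z hz => ?_
      · simp only [Finset.mem_insert, Finset.mem_singleton] at hX
        rcases hX with rfl | rfl
        · exact hA.1.le
        · exact hB.1.le
      · have e := hfix l hl X hX
        rw [hfs] at e
        rw [← e]
        exact Finset.mem_map_of_mem _ hz
    have hU' : ∀ l ∈ L, ∀ z ∈ U, l z = z := fun l hl z hz => by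
      rcases Finset.mem_union.mp hz with h | h
      · exact hpt A (by simp) l hl z h
      · exact hpt B (by simp) l hl z h
    have htriv : ∀ l ∈ L, l = 1 := fun l hl => Perm.ext fun z => by
      rw [Perm.one_apply]
      by_cases hz : z ∈ U
      · exact hU' l hl z hz
      · by_contra e
        have hlz : l z ∉ U := fun hlz => e (l.injective (hU' l hl _ hlz))
        exact e (hπ.fix _ _ (by_contra fun h => hlz ((hU _).mpr h)) (by_contra fun h => hz ((hU _).mpr h)))
    exact hne (le_bot_iff.mp (commutator_le.mpr fun a ha b hb => by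
      simp [htriv a ha, htriv b hb]))
  · exact hπ.preserving_false hperf hW hn hqs hnorm fun l hl z =>
      congrArg (fun u : Perm α => u z) (h l hl π hπN).eq

end Pairing

end Cfsg.Agent.SymOdd
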