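import Cfsg.Agent.SymOdd.TwoBase

/-!
# Finding a 3-cycle among double transpositions
-/

namespace Cfsg.Agent.SymOdd

open Equiv Equiv.Perm Subgroup
open scoped commutatorElement

variable {α : Type*} [DecidableEq α] [Fintype α] {H : Subgroup (Perm α)}

/-- Contains a 3-cycle. -/
def HasThree (H : Subgroup (Perm α)) : Prop := ∃ g ∈ H, IsThreeCycle g

/-- Two elements "transposition times involution" sharing a point give a 3-cycle. -/
theorem star {a b e : α} (hab : a ≠ b) (hae : a ≠ e) (hbe : b ≠ e) {p q : Perm α}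
    (hp : ∀ x ∈ ({a, b, e} : Finset α), p x = x) (hq : ∀ x ∈ ({a, b, e} : Finset α), q x = x)
    (hpp : p * p = 1) (hqq : q * q = 1) (hpq : Commute p q)
    (h1 : swap a b * p ∈ H) (h2 : swap a e * q ∈ H) : HasThree H := by
  refine ⟨cyc b a e, ?_, cyc_isThreeCycle hab.symm hbe hae⟩
  have hd : ∀ r : Perm α, (∀ x ∈ ({a, b, e} : Finset α), r x = x) → ∀ u ∈ ({a, b, e} : Finset α),
      ∀ v ∈ ({a, b, e} : Finset α), Commute r (swap u v) := fun r hr u hu v hv =>
    Perm.Disjoint.commute (f := r) fun x => by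
      by_cases hx : x ∈ ({a, b, e} : Finset α)
      · exact Or.inl (hr x hx)
      · exact Or.inr (swap_apply_of_ne_of_ne (fun h => hx (h ▸ hu)) fun h => hx (h ▸ hv))
  have e0 : swap a b * swap a e = cyc b a e := by rw [cyc, swap_comm a b]
  have e1 : swap a b * p * (swap a e * q) = cyc b a e * (p * q) := by
    rw [← e0, mul_assoc, ← mul_assoc p, (hd p hp a (by simp) e (by simp)).eq]
    group
  have hcomm : Commute (cyc b a e) (p * q) := by
    rw [← e0]
    have k := fun r hr u hu v hv => (hd r hr u hu v hv).symm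
    exact ((k p hp a (by simp) b (by simp)).mul_left (k p hp a (by simp) e (by simp))).mul_right
      ((k q hq a (by simp) b (by simp)).mul_left (k q hq a (by simp) e (by simp)))
  have e2 : (cyc b a e * (p * q)) ^ 2 = cyc b a e ^ 2 := by
    rw [hcomm.mul_pow, hpq.mul_pow, sq p, sq q, hpp, hqq, mul_one, mul_one]
  have h3 := (cyc_isThreeCycle hab.symm hbe hae).orderOf
  have : cyc b a e = (cyc b a e ^ 2) ^ 2 := by
    rw [← pow_mul, show 2 * 2 = 3 + 1 from rfl, pow_succ, ← h3, pow_orderOf_eq_one, one_mul]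
  rw [this, ← e2, ← e1]
  exact pow_mem (pow_mem (mul_mem h1 h2) _) _

theorem swap_commute {a b c d : α} (h1 : a ≠ c) (h2 : a ≠ d) (h3 : b ≠ c) (h4 : b ≠ d) :
    Commute (swap a b) (swap c d) :=
  Perm.Disjoint.commute fun x => by
    simp only [swap_apply_def]
    grind

/-- A double transposition. -/
def IsDT (g : Perm α) : Prop :=
  ∃ a e c f, a ≠ e ∧ c ≠ f ∧ a ≠ c ∧ a ≠ f ∧ e ≠ c ∧ e ≠ f ∧ g = swap a e * swap c f

omit [Fintype α] in
theorem IsDT.conj {g : Perm α} (h : IsDT g) (k : Perm α) : IsDT (k * g * k⁻¹) := by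
  obtain ⟨a, e, c, f, h1, h2, h3, h4, h5, h6, rfl⟩ := h
  exact ⟨k a, k e, k c, k f, k.injective.ne h1, k.injective.ne h2, k.injective.ne h3,
    k.injective.ne h4, k.injective.ne h5, k.injective.ne h6, by
      rw [swap_apply_apply, swap_apply_apply]; group⟩

namespace Pairing

variable {π : Perm α} (hπ : Pairing π)
include hπ

theorem pswap_isDT {x y : α} (hx : π x ≠ x) (hy : π y ≠ y) (h1 : y ≠ x) (h2 : y ≠ π x) :
    IsDT (pswap π x * pswap π y) := by
  refine ⟨x, π x, y, π y, hx.symm, hy.symm, h1.symm, fun e => h2 ?_, fun e => h2 e.symm,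
    fun e => h1 (π.injective e).symm, rfl⟩
  rw [e, hπ.inv]

variable (hW : ∀ x y, π x ≠ x → π y ≠ y → y ≠ x → y ≠ π x → pswap π x * pswap π y ∈ H)
  (h3 : ¬ HasThree H)
include hW h3

theorem partner_mem (hn : 10 ≤ Fintype.card α) {a e c f : α} (hae : a ≠ e) (hcf : c ≠ f)
    (hac : a ≠ c) (haf : a ≠ f) (hec : e ≠ c) (hef : e ≠ f) (hd : swap a e * swap c f ∈ H)
    (ha : π a ≠ a) (hne : π a ≠ e) : π a = c ∨ π a = f := by
  by_contra h
  push Not at h
  obtain ⟨w, hw, hwF, hwF'⟩ := hπ.exists_outside (k := 4) hn {a, e, c, f} Finset.card_le_four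
  simp only [Finset.mem_insert, Finset.mem_singleton, not_or] at hwF hwF'
  have hwa : w ≠ π a := fun e => hwF'.1 (by rw [e, hπ.inv])
  have hwa' : π w ≠ π a := fun e => hwF.1 (π.injective e)
  refine h3 (star (p := pswap π w) (q := swap c f) ha.symm hae hne (fun x hx => ?_) (fun x hx => ?_)
    (swap_mul_self _ _) (swap_mul_self _ _) (swap_commute hwF.2.2.1 hwF.2.2.2 hwF'.2.2.1 hwF'.2.2.2)
    (hW a w ha hw hwF.1 hwa) hd)
  · simp only [Finset.mem_insert, Finset.mem_singleton] at hx
    simp only [pswap, swap_apply_def]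
    grind
  · simp only [Finset.mem_insert, Finset.mem_singleton] at hx
    simp only [swap_apply_def]
    grind

theorem partner_apply (hn : 10 ≤ Fintype.card α) {a e c f : α} (hae : a ≠ e) (hcf : c ≠ f)
    (hac : a ≠ c) (haf : a ≠ f) (hec : e ≠ c) (hef : e ≠ f) (hd : swap a e * swap c f ∈ H)
    (ha : π a ≠ a) : (swap a e * swap c f) (π a) = π e := by
  by_cases hne : π a = e
  · have := hπ.inv a
    subst hne
    simp only [Perm.mul_apply, swap_apply_def]
    grind
  have hd' : swap e a * swap c f ∈ H := by rwa [swap_comm e a]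
  have h1 := hπ.partner_mem hW h3 hn hae hcf hac haf hec hef hd ha hne
  by_cases he : π e = e
  · exfalso
    rcases h1 with h1 | h1
    · have hd2 : swap f c * swap a e ∈ H := by
        rwa [swap_comm f c, ← (swap_commute hac haf hec hef).eq]
      have hf : π f ≠ f := fun h => hef (hπ.fix _ _ he h)
      have hfc : π f ≠ c := fun h => haf (π.injective (h.trans h1.symm)).symm
      rcases hπ.partner_mem hW h3 hn hcf.symm hae haf.symm hef.symm hac.symm hec.symm hd2 hf hfc with h | h
      · exact hcf (by rw [← h1, ← h, hπ.inv])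
      · exact hef (π.injective (he.trans h.symm))
    · have hd2 : swap c f * swap a e ∈ H := by
        rwa [← (swap_commute hac haf hec hef).eq]
      have hc : π c ≠ c := fun h => hec (hπ.fix _ _ he h)
      have hcf' : π c ≠ f := fun h => hac (π.injective (h.trans h1.symm)).symm
      rcases hπ.partner_mem hW h3 hn hcf hae hac.symm hec.symm haf.symm hef.symm hd2 hc hcf' with h | h
      · exact hcf (by rw [← h1, ← h, hπ.inv])
      · exact hec (π.injective (he.trans h.symm))
  · have h2 := hπ.partner_mem hW h3 hn hae.symm hcf hec hef hac haf hd' he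
      (fun h => hne (by rw [← h, hπ.inv]))
    have : π a ≠ π e := fun h => hae (π.injective h)
    simp only [Perm.mul_apply, swap_apply_def]
    grind

theorem dt_preserves (hn : 10 ≤ Fintype.card α) {d : Perm α} (hdH : d ∈ H) (hd : IsDT d) (z : α) :
    d (π z) = π (d z) := by
  obtain ⟨a, e, c, f, hae, hcf, hac, haf, hec, hef, rfl⟩ := hd
  have hcm := (swap_commute hac haf hec hef).eq
  have main : ∀ w, π w ≠ w → w ∈ ({a, e, c, f} : Finset α) →
      (swap a e * swap c f) (π w) = π ((swap a e * swap c f) w) := by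
    intro w hw hwm
    simp only [Finset.mem_insert, Finset.mem_singleton] at hwm
    rcases hwm with rfl | rfl | rfl | rfl
    · rw [hπ.partner_apply hW h3 hn hae hcf hac haf hec hef hdH hw]
      simp [Perm.mul_apply, swap_apply_of_ne_of_ne hac haf]
    · have hd' : swap w a * swap c f ∈ H := by rwa [swap_comm w a]
      rw [show swap a w * swap c f = swap w a * swap c f by rw [swap_comm a w],
        hπ.partner_apply hW h3 hn hae.symm hcf hec hef hac haf hd' hw]
      simp [Perm.mul_apply, swap_apply_of_ne_of_ne hec hef]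
    · have hd' : swap w f * swap a e ∈ H := by rwa [← hcm]
      rw [hcm, hπ.partner_apply hW h3 hn hcf hae hac.symm hec.symm haf.symm hef.symm hd' hw]
      simp [Perm.mul_apply, swap_apply_of_ne_of_ne hac.symm hec.symm]
    · have hd' : swap w c * swap a e ∈ H := by rw [swap_comm w c]; rwa [← hcm]
      rw [hcm, show swap c w * swap a e = swap w c * swap a e by rw [swap_comm c w],
        hπ.partner_apply hW h3 hn hcf.symm hae haf.symm hef.symm hac.symm hec.symm hd' hw]
      simp [Perm.mul_apply, swap_apply_of_ne_of_ne haf.symm hef.symm]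
  set d := swap a e * swap c f with hd
  have hdd : ∀ x, d (d x) = x := fun x => by
    rw [← Perm.mul_apply, hd]
    simp only [Perm.mul_apply, swap_apply_def]
    grind
  have hsupp : ∀ x, d x ≠ x → x ∈ ({a, e, c, f} : Finset α) := fun x hx => by
    simp only [hd, Perm.mul_apply, swap_apply_def] at hx
    simp only [Finset.mem_insert, Finset.mem_singleton]
    grind
  by_cases hz : π z = z
  · rw [hz]
    by_contra h
    by_cases hm : d z = z
    · rw [hm, hz] at h; exact h rfl
    · have hw : π (d z) ≠ d z := fun e => hm (hπ.fix _ _ e hz)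
      have hm' : d (d z) ≠ d z := fun e => hm (d.injective e)
      have := main _ hw (hsupp _ hm')
      rw [hdd, hz] at this
      have h2 : π (d z) = d z := by rw [← hdd (π (d z)), this]
      exact hw h2
  by_cases hm : d z = z
  · by_contra h
    rw [hm] at h
    have hw : π (π z) ≠ π z := fun e => hz (π.injective e)
    have := main _ hw (hsupp _ h)
    rw [hπ.inv, hm] at this
    exact h (by rw [← hπ.inv (d (π z)), ← this])
  · exact main z hz (hsupp z hm)

variable {L : Subgroup (Perm α)} (hqs : Cfsg.IsQuasisimple ↥L)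
  (hnorm : ∀ h ∈ H, ∀ l ∈ L, h * l * h⁻¹ ∈ L)
  (hle : ∀ K : Subgroup (Perm α), K ≤ H → (∀ h ∈ H, ∀ k ∈ K, h * k * h⁻¹ ∈ K) →
    L ≤ K ∨ ∀ l ∈ L, ∀ k ∈ K, Commute l k)
include hqs hnorm hle

theorem no_three_false_large (hn : 10 ≤ Fintype.card α) : False := by
  have hperf := Layer.qs_subgroup_perfect hqs
  let K : Subgroup (Perm α) := Subgroup.closure {g | g ∈ H ∧ IsDT g}
  have hKn : ∀ h ∈ H, ∀ k ∈ K, h * k * h⁻¹ ∈ K := by
    intro h hh k hk
    have : K.map (MulAut.conj h).toMonoidHom ≤ K := by
      show (Subgroup.closure _).map _ ≤ _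
      rw [MonoidHom.map_closure]
      refine closure_mono ?_
      rintro _ ⟨g, ⟨hg1, hg2⟩, rfl⟩
      exact ⟨mul_mem (mul_mem hh hg1) (inv_mem hh), hg2.conj h⟩
    exact this ⟨k, hk, rfl⟩
  rcases hle K ((closure_le H).mpr fun g hg => hg.1) hKn with h | h
  · refine hπ.preserving_false hperf hW (by omega) hqs hnorm fun l hl => ?_
    have hK : K ≤ centralizer ({π} : Set (Perm α)) := (closure_le _).mpr fun g hg =>
      mem_centralizer_singleton_iff.mpr (Perm.ext fun z =>
        hπ.dt_preserves hW h3 hn hg.1 hg.2 z)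
    exact fun z => congrArg (fun u : Perm α => u z) (mem_centralizer_singleton_iff.mp (hK (h hl)))
  · exact hπ.centralized_false hperf hW (by omega) (Layer.qs_subgroup_not_abelian hqs)
      fun x y hx hy h1 h2 l hl => h l hl _ (subset_closure ⟨hW x y hx hy h1 h2, hπ.pswap_isDT hx hy h1 h2⟩)

end Pairing

end Cfsg.Agent.SymOdd
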